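import Groth.Agent.H20Dyn.BigCell
import Groth.Agent.H20Comod.Chevalley
import Groth.Agent.H20Comod.LineTensor
import Groth.Agent.H20Forms.Basic
import Groth.Agent.S16480
import Mathlib

/-!
# The big cell of an affine group over a field
-/

set_option autoImplicit false
set_option linter.style.haveILetI false

universe u

open LaurentPolynomial TensorProduct WithConv CategoryTheory AlgebraicGeometry

namespace Groth.Agent.H20Dyn

noncomputable section

variable {k : Type u} [Field k] {H : Type u} [CommRing H] [HopfAlgebra k H]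
variable {V : Type u} [AddCommGroup V] [Module k V] [HopfRep.Comod k H V]
variable {R : Type u} [CommRing R] [Algebra k R]

/-- A matrix coefficient. -/
def mcoef (φ : V →ₗ[k] k) (w : V) : H :=
  TensorProduct.lid k H (φ.rTensor H (HopfRep.Comod.coact (k := k) (A := H) w))

theorem apply_mcoef (g : H →ₐ[k] R) (φ : V →ₗ[k] k) (w : V) :
    g (mcoef φ w) = TensorProduct.lid k R (φ.rTensor R (g.toLinearMap.lTensor V (HopfRep.Comod.coact (k := k) (A := H) w))) := by
  rw [mcoef]
  generalize HopfRep.Comod.coact (k := k) (A := H) w = z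
  induction z using TensorProduct.induction_on with
  | zero => simp
  | tmul x h => simp
  | add x y hx hy => simp only [map_add, hx, hy]

theorem stabilizesLine_iff (g : H →ₐ[k] R) (v : V) :
    SGA3.StabilizesLine k H v R g ↔ ∃ c : R, ∀ φ : V →ₗ[k] k, g (mcoef φ v) = φ v • c := by
  refine exists_congr fun c => ⟨fun h φ => ?_, fun h => ?_⟩
  · rw [apply_mcoef, show g.toLinearMap.lTensor V (HopfRep.Comod.coact (k := k) (A := H) v) = v ⊗ₜ[k] c from h,
      LinearMap.rTensor_tmul, TensorProduct.lid_tmul]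
  · let b := Module.Free.chooseBasis k V
    let e := TensorProduct.equivFinsuppOfBasisLeft (N := R) b
    have key : ∀ (z : V ⊗[k] R) i, e z i = TensorProduct.lid k R ((b.coord i).rTensor R z) := by
      intro z i
      induction z using TensorProduct.induction_on with
      | zero => simp
      | tmul x y => simp [e]
      | add x y hx hy => simp only [map_add, Finsupp.coe_add, Pi.add_apply, hx, hy]
    refine e.injective (Finsupp.ext fun i => ?_)
    rw [key, key, ← apply_mcoef, h, LinearMap.rTensor_tmul, TensorProduct.lid_tmul]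

theorem mul_apply_mcoef (x y : WithConv (H →ₐ[k] R)) (v : V) (c : R) (φ : V →ₗ[k] k)
    (hy : ∀ ψ : V →ₗ[k] k, y.ofConv (mcoef ψ v) = ψ v • c) :
    (x * y).ofConv (mcoef φ v) = x.ofConv (mcoef φ v) * c := by
  obtain ⟨c', hc'⟩ := (stabilizesLine_iff y.ofConv v).2 ⟨c, hy⟩
  let Φ : V ⊗[k] R →ₗ[k] R := TensorProduct.lift
    ((LinearMap.mul k R).comp (x.ofConv.toLinearMap.comp
      ((TensorProduct.lid k H).toLinearMap.comp ((φ.rTensor H).comp (HopfRep.Comod.coact (k := k) (A := H))))))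
  have hco := LinearMap.congr_fun (HopfRep.Comod.coassoc (k := k) (A := H) (V := V)) v
  have e1 : (x * y).ofConv (mcoef φ v) = TensorProduct.lid k R (φ.rTensor R
      ((Algebra.TensorProduct.lmul' k (S := R)).toLinearMap.lTensor V
        ((TensorProduct.map x.ofConv.toLinearMap y.ofConv.toLinearMap).lTensor V
          ((CoalgebraStruct.comul (R := k) (A := H)).lTensor V (HopfRep.Comod.coact (k := k) (A := H) v))))) := by
    rw [apply_mcoef]
    congr 2
    rw [← LinearMap.lTensor_comp_apply, ← LinearMap.lTensor_comp_apply]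
    rfl
  have e2 : ∀ z : V ⊗[k] H, TensorProduct.lid k R (φ.rTensor R
      ((Algebra.TensorProduct.lmul' k (S := R)).toLinearMap.lTensor V
        ((TensorProduct.map x.ofConv.toLinearMap y.ofConv.toLinearMap).lTensor V
          (TensorProduct.assoc k V H H ((HopfRep.Comod.coact (k := k) (A := H)).rTensor H z))))) =
      Φ (y.ofConv.toLinearMap.lTensor V z) := by
    intro z
    induction z using TensorProduct.induction_on with
    | zero => simp
    | add a b ha hb => simp only [map_add, ha, hb]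
    | tmul w h =>
      rw [LinearMap.rTensor_tmul, LinearMap.lTensor_tmul]
      show _ = x.ofConv (mcoef φ w) * y.ofConv h
      rw [mcoef]
      generalize HopfRep.Comod.coact (k := k) (A := H) w = t
      induction t using TensorProduct.induction_on with
      | zero => simp
      | add a b ha hb => simp only [map_add, TensorProduct.add_tmul, ha, hb, add_mul]
      | tmul w' h' => simp [Algebra.smul_mul_assoc]
  rw [e1, ← show TensorProduct.assoc k V H H ((HopfRep.Comod.coact (k := k) (A := H)).rTensor H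
      (HopfRep.Comod.coact (k := k) (A := H) v)) = (CoalgebraStruct.comul (R := k) (A := H)).lTensor V
      (HopfRep.Comod.coact (k := k) (A := H) v) from hco, e2, hc']
  show x.ofConv (mcoef φ v) * c' = _
  by_cases hv : v = 0
  · simp [mcoef, hv]
  · obtain ⟨ψ, hψ⟩ : ∃ ψ : V →ₗ[k] k, ψ v = 1 := by
      obtain ⟨ψ, hψ⟩ : ∃ ψ : V →ₗ[k] k, ψ v ≠ 0 := by
        by_contra hcon
        push Not at hcon
        exact hv ((Module.forall_dual_apply_eq_zero_iff k v).1 hcon)
      exact ⟨(ψ v)⁻¹ • ψ, by simp [hψ]⟩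
    have h1 := hy ψ
    rw [apply_mcoef, hc', LinearMap.rTensor_tmul, TensorProduct.lid_tmul, hψ, one_smul, one_smul] at h1
    rw [h1]

theorem counit_mcoef (φ : V →ₗ[k] k) (v : V) : Coalgebra.counit (R := k) (mcoef (H := H) φ v) = φ v := by
  have h := LinearMap.congr_fun (HopfRep.Comod.counit_comp (k := k) (A := H) (V := V)) v
  simp only [LinearMap.coe_comp, Function.comp_apply, LinearMap.flip_apply, TensorProduct.mk_apply] at h
  rw [mcoef]
  have key : ∀ z : V ⊗[k] H, Coalgebra.counit (R := k) (TensorProduct.lid k H (φ.rTensor H z)) =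
      TensorProduct.lid k k (φ.rTensor k ((CoalgebraStruct.counit (R := k) (A := H)).lTensor V z)) := by
    intro z
    induction z using TensorProduct.induction_on with
    | zero => simp
    | tmul a b => simp
    | add a b ha hb => simp only [map_add, ha, hb]
  rw [key, h]
  simp

variable (lam : H →ₐc[k] k[T;T⁻¹]) {lamNeg : H →ₐc[k] k[T;T⁻¹]}
  (hneg : (lamNeg : H →ₐ[k] k[T;T⁻¹]) = Dyn.negParam k H lam)
include hneg

/-- If the torus and a product `u * p` stabilise a line, so does `p`. -/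
theorem stabilizes_right_factor (v : V) {I : Ideal H} [I.IsHopfIdeal k]
    (hI : Dyn.Represents k H I (fun R _ _ g => SGA3.StabilizesLine k H v R g))
    (hlam : ∀ a ∈ I, lam a = 0) {u p : WithConv (H →ₐ[k] R)}
    (hu : u ∈ limOneSubgroup R lamNeg) (hp : p ∈ limSubgroup R lam) (hg : ∀ a ∈ I, (u * p).ofConv a = 0) :
    ∀ a ∈ I, p.ofConv a = 0 := by
  classical
  obtain ⟨c, hc⟩ := (stabilizesLine_iff _ v).1 ((hI R _).1 hg)
  obtain ⟨cL, hcL⟩ := (stabilizesLine_iff _ v).1 ((hI R[T;T⁻¹] (pt lam (Tu R)).ofConv).1 fun a ha => by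
    show chi (Tu R) (lam a) = 0
    rw [hlam a ha, map_zero])
  obtain ⟨cLi, hcLi⟩ := (stabilizesLine_iff _ v).1 ((hI R[T;T⁻¹] ((pt lam (Tu R))⁻¹).ofConv).1 fun a ha => by
    show chi (Tu R) (lam (HopfAlgebra.antipode k a)) = 0
    rw [hlam _ (Ideal.IsHopfIdeal.antipode_mem (R := k) ha), map_zero])
  have hu' : u⁻¹ ∈ limOneSubgroup R lamNeg := Subgroup.inv_mem _ hu
  have hι : ∀ ψ : V →ₗ[k] k, (post (cst k R) (u * p)).ofConv (mcoef ψ v) = ψ v • (cst k R) c := fun ψ => by
    rw [post_ofConv, AlgHom.comp_apply, hc, map_smul]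
  have hone : ∀ ψ : V →ₗ[k] k, (1 : WithConv (H →ₐ[k] R[T;T⁻¹])).ofConv (mcoef ψ v) = ψ v • (1 : R[T;T⁻¹]) :=
    fun ψ => by rw [one_apply, counit_mcoef, Algebra.algebraMap_eq_smul_one]
  have hgc : ∀ ψ : V →ₗ[k] k, (conjHom lam (u * p)).ofConv (mcoef ψ v) = ψ v • cst k R c := by
    intro ψ
    have h2 : ∀ ψ' : V →ₗ[k] k, (pt lam (Tu R) * post (cst k R) (u * p)).ofConv (mcoef ψ' v) =
        ψ' v • (cL * cst k R c) := fun ψ' => by
      rw [mul_apply_mcoef _ _ v _ ψ' hι, hcL, smul_mul_assoc]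
    have h4 : ∀ ψ' : V →ₗ[k] k, ψ' v • (cL * cLi) = ψ' v • (1 : R[T;T⁻¹]) := fun ψ' => by
      rw [← hone ψ', ← mul_inv_cancel (pt lam (Tu R)), mul_apply_mcoef _ _ v _ ψ' hcLi, hcL, smul_mul_assoc]
    rw [conjHom_apply, mul_apply_mcoef _ _ v _ ψ hcLi, h2, smul_mul_assoc,
      show cL * cst k R c * cLi = cst k R c * (cL * cLi) by ring, ← mul_smul_comm, h4, mul_smul_comm, mul_one]
  refine (hI R _).2 ((stabilizesLine_iff _ v).2 ⟨c, fun φ => ?_⟩)
  have e : conjHom lam p = conjHom lam u⁻¹ * conjHom lam (u * p) := by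
    rw [← map_mul, inv_mul_cancel_left]
  have h5 : (conjHom lam p).ofConv (mcoef φ v) = (conjHom lam u⁻¹).ofConv (mcoef φ v) * cst k R c := by
    rw [e, mul_apply_mcoef _ _ v _ φ hgc]
  have hcoef : ∀ n, p.ofConv ((theta k H lam (mcoef φ v)).coeff n) =
      (u⁻¹).ofConv ((theta k H lam (mcoef φ v)).coeff n) * c := by
    intro n
    have h6 := congrArg (fun f : R[T;T⁻¹] => f.coeff n) h5
    simp only [coeff_conjHom] at h6
    rw [h6, show cst k R c = AddMonoidAlgebra.single (0 : ℤ) c from rfl, AddMonoidAlgebra.coeff_mul_single_zero,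
      coeff_conjHom]
  rw [mem_limSubgroup_iff] at hp
  rw [mem_limOneSubgroup_neg_iff lam hneg] at hu'
  conv_lhs => rw [eq_sum_theta lam (mcoef φ v), map_sum]
  rw [Finset.sum_eq_single (0 : ℤ)]
  · rw [hcoef, (hu' (mcoef φ v) 0).2, counit_mcoef, Algebra.smul_def]
  · intro m _ hm
    rcases lt_or_gt_of_ne hm with h | h
    · exact hp _ m h
    · rw [hcoef, (hu' _ m).1 h, zero_mul]
  · intro h
    rw [Finsupp.notMem_support_iff.1 h, map_zero]

omit hneg

section Embed

variable {A : Type u} [CommRing A] [HopfAlgebra k A] (π : H →ₐc[k] A)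

/-- Restriction of points along a homomorphism of groups. -/
def pre : WithConv (A →ₐ[k] R) →* WithConv (H →ₐ[k] R) where
  toFun g := toConv (g.ofConv.comp (π : H →ₐ[k] A))
  map_one' := ofConv_injective (AlgHom.ext fun h => by
    show algebraMap k R (Coalgebra.counit (R := k) (π h)) = algebraMap k R (Coalgebra.counit (R := k) h)
    rw [CoalgHomClass.counit_comp_apply])
  map_mul' f g := ofConv_injective (AlgHom.convMul_comp_bialgHom_distrib f g π)

theorem pre_injective (hπ : Function.Surjective π) :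
    Function.Injective (pre (R := R) π) := fun f g h => ofConv_injective (AlgHom.ext fun a => by
  obtain ⟨b, rfl⟩ := hπ a
  exact AlgHom.congr_fun (congrArg ofConv h) b)

theorem post_pre {R' : Type u} [CommRing R'] [Algebra k R'] (φ : R →ₐ[k] R') (g : WithConv (A →ₐ[k] R)) :
    post φ (pre π g) = pre π (post φ g) := rfl

theorem conjHom_pre (lam : A →ₐc[k] k[T;T⁻¹]) (g : WithConv (A →ₐ[k] R)) :
    conjHom (lam.comp π) (pre π g) = pre π (conjHom lam g) := by
  rw [conjHom_apply, conjHom_apply, map_mul, map_mul, map_inv, post_pre]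
  rfl

theorem theta_pre (lam : A →ₐc[k] k[T;T⁻¹]) (b : H) (n : ℤ) :
    π ((theta k H (lam.comp π) b).coeff n) = (theta k A lam (π b)).coeff n := by
  have h := congrArg (fun f => (f.ofConv b).coeff n) (conjHom_pre π lam (toConv (AlgHom.id k A)))
  rw [coeff_conjHom] at h
  exact h

theorem mem_limSubgroup_pre_iff (hπ : Function.Surjective π) (lam : A →ₐc[k] k[T;T⁻¹]) (g : WithConv (A →ₐ[k] R)) :
    pre π g ∈ limSubgroup R (lam.comp π) ↔ g ∈ limSubgroup R lam := by
  rw [mem_limSubgroup_iff, mem_limSubgroup_iff]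
  refine ⟨fun h a n hn => ?_, fun h b n hn => ?_⟩
  · obtain ⟨b, rfl⟩ := hπ a
    rw [← theta_pre]
    exact h b n hn
  · show g.ofConv (π _) = 0
    rw [theta_pre]
    exact h _ n hn

theorem mem_limOneSubgroup_pre_iff (hπ : Function.Surjective π) (lam : A →ₐc[k] k[T;T⁻¹]) (g : WithConv (A →ₐ[k] R)) :
    pre π g ∈ limOneSubgroup R (lam.comp π) ↔ g ∈ limOneSubgroup R lam := by
  rw [show pre π g ∈ limOneSubgroup R (lam.comp π) ↔ _ from (limIsOne_iff_mem (lam.comp π) (pre π g).ofConv).symm,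
    show g ∈ limOneSubgroup R lam ↔ _ from (limIsOne_iff_mem lam g.ofConv).symm, limIsOne_iff, limIsOne_iff,
    limExists_iff_mem, limExists_iff_mem]
  refine and_congr (mem_limSubgroup_pre_iff π hπ lam g) ⟨fun h a => ?_, fun h b => ?_⟩
  · obtain ⟨b, rfl⟩ := hπ a
    rw [← theta_pre, CoalgHomClass.counit_comp_apply]
    exact h b
  · show g.ofConv (π _) = _
    rw [theta_pre, h, CoalgHomClass.counit_comp_apply]

/-- The big cell of an affine group of finite type over a field is open. -/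
theorem isOpenImmersion_bigCell_field [Algebra.FiniteType k A] [Algebra.FiniteType k H] [Algebra.FormallySmooth k H]
    (hπ : Function.Surjective π) (lam lamNeg : A →ₐc[k] k[T;T⁻¹])
    (hneg : (lamNeg : A →ₐ[k] k[T;T⁻¹]) = Dyn.negParam k A lam) {Jp Jm : Ideal A}
    (hp : Dyn.Represents k A Jp (fun R _ _ g => Dyn.LimExists k A lam R g))
    (hm : Dyn.Represents k A Jm (fun R _ _ g => Dyn.LimIsOne k A lamNeg R g)) :
    IsOpenImmersion (Spec.map (CommRingCat.ofHom
      ((Algebra.TensorProduct.map (Ideal.Quotient.mkₐ k Jm) (Ideal.Quotient.mkₐ k Jp)).comp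
        (Bialgebra.comulAlgHom k A)).toRingHom)) := by
  classical
  haveI : IsNoetherianRing H := Algebra.FiniteType.isNoetherianRing k H
  haveI hI : (RingHom.ker (π : H →ₐ[k] A)).IsHopfIdeal k := H20Comod.isHopfIdeal_ker_bialgHom π hπ
  obtain ⟨V, _, _, _, _, v, -, hv⟩ := H20Comod.exists_line_stabilizer (k := k) (RingHom.ker (π : H →ₐ[k] A))
  have hnegH : ((lamNeg.comp π : H →ₐc[k] k[T;T⁻¹]) : H →ₐ[k] k[T;T⁻¹]) = Dyn.negParam k H (lam.comp π) := by
    refine AlgHom.ext fun h => ?_
    exact AlgHom.congr_fun hneg (π h)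
  haveI : Algebra.FiniteType k (A ⧸ Jm) :=
    Algebra.FiniteType.of_surjective (Ideal.Quotient.mkₐ k Jm) Ideal.Quotient.mk_surjective
  haveI : Algebra.FiniteType k (A ⧸ Jp) :=
    Algebra.FiniteType.of_surjective (Ideal.Quotient.mkₐ k Jp) Ideal.Quotient.mk_surjective
  haveI : Algebra.FiniteType k ((A ⧸ Jm) ⊗[k] (A ⧸ Jp)) :=
    Algebra.FiniteType.trans (inferInstance : Algebra.FiniteType k (A ⧸ Jm)) inferInstance
  haveI : Algebra.FinitePresentation k ((A ⧸ Jm) ⊗[k] (A ⧸ Jp)) :=
    Algebra.FinitePresentation.of_finiteType.1 inferInstance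
  refine isOpenImmersion_of_lift _ (fun f f' => bigCell_ext lam hneg hp hm f f') fun {B} _ _ I hI2 g fb hg => ?_
  have hsq : ∀ x y, Ideal.Quotient.mkₐ k I x = 0 → Ideal.Quotient.mkₐ k I y = 0 → x * y = 0 := fun x y hx hy =>
    Ideal.mem_bot.1 (hI2 ▸ pow_two I ▸ Ideal.mul_mem_mul
      (Ideal.Quotient.eq_zero_iff_mem.1 hx) (Ideal.Quotient.eq_zero_iff_mem.1 hy))
  obtain ⟨h1, h2, h3⟩ := bigCell_split lam hneg hp hm fb
  obtain ⟨u, hu, p, hpp, hup, -, -⟩ := exists_lift_decomp (lam.comp π) hnegH (φ := Ideal.Quotient.mkₐ k I)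
    Ideal.Quotient.mk_surjective hsq (pre π (toConv g)) ((mem_limOneSubgroup_pre_iff π hπ lamNeg _).2 h1)
    ((mem_limSubgroup_pre_iff π hπ lam _).2 h2)
    (by rw [post_pre, ← map_mul, h3]; exact congrArg (pre π) (ofConv_injective hg.symm))
  have hkill : ∀ a ∈ RingHom.ker (π : H →ₐ[k] A), p.ofConv a = 0 :=
    stabilizes_right_factor (lam.comp π) hnegH v hv (fun a ha => by
      show lam (π a) = 0
      rw [show π a = 0 from ha, map_zero]) hu hpp (fun a ha => by
      rw [hup]
      show g (π a) = 0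
      rw [show π a = 0 from ha, map_zero])
  let p' : WithConv (A →ₐ[k] B) := toConv (AlgHom.liftOfSurjective (π : H →ₐ[k] A) hπ p.ofConv hkill)
  have hp' : pre π p' = p := ofConv_injective (AlgHom.liftOfSurjective_comp _ _ _ _)
  have hu' : pre π (toConv g * p'⁻¹) = u := by rw [map_mul, map_inv, hp', ← hup, mul_inv_cancel_right]
  obtain ⟨f, hf⟩ := bigCell_hom lam hp hm ((mem_limOneSubgroup_pre_iff π hπ lamNeg _).1 (hu'.symm ▸ hu))
    ((mem_limSubgroup_pre_iff π hπ lam _).1 (hp'.symm ▸ hpp))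
  rw [inv_mul_cancel_right] at hf
  have hfg : f.comp ((Algebra.TensorProduct.map (Ideal.Quotient.mkₐ k Jm) (Ideal.Quotient.mkₐ k Jp)).comp
      (Bialgebra.comulAlgHom k A)) = g := congrArg ofConv hf
  refine ⟨f, hfg, bigCell_ext lam hneg hp hm _ _ ?_⟩
  rw [AlgHom.comp_assoc, hfg, hg]

end Embed

omit [CommRing H] [HopfAlgebra k H] in
/-- General linear groups are formally smooth. -/
theorem formallySmooth_GLn (n : ℕ) : Algebra.FormallySmooth k (CoordGrp.GLn n k) := by
  classical
  refine Algebra.FormallySmooth.of_comp_surjective fun B _ _ I hI f => ?_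
  choose M hM using fun (p : Fin n × Fin n) => Ideal.Quotient.mk_surjective (f (CoordGrp.GLn.X p.1 p.2))
  let N : Matrix (Fin n) (Fin n) B := Matrix.of fun i j => M (i, j)
  have hd : Ideal.Quotient.mk I N.det = f CoordGrp.GLn.det := by
    rw [CoordGrp.GLn.det_eq, AlgHom.map_det, RingHom.map_det]
    congr 1
    exact Matrix.ext fun i j => hM (i, j)
  have hu : IsUnit N.det := by
    refine (IsNilpotent.isUnit_quotient_mk_iff (I := I) ⟨2, hI⟩).1 ?_
    rw [hd]
    exact ⟨⟨f CoordGrp.GLn.det, f CoordGrp.GLn.Dinv, by rw [← map_mul, CoordGrp.GLn.det_mul_Dinv, map_one],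
      by rw [← map_mul, CoordGrp.GLn.Dinv_mul_det, map_one]⟩, rfl⟩
  refine ⟨CoordGrp.GLn.pt n k N (↑hu.unit⁻¹) hu.mul_val_inv, S16480.gln_algHom_ext_X fun i j => ?_⟩
  show Ideal.Quotient.mk I (CoordGrp.GLn.pt n k N (↑hu.unit⁻¹) hu.mul_val_inv (CoordGrp.GLn.X i j)) = _
  rw [CoordGrp.GLn.pt_X]
  exact hM (i, j)

end

end Groth.Agent.H20Dyn
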