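import Groth.Prelude.Def_Dyn
import Mathlib

/-!
# The dynamic method for affine groups: group-theoretic form of conjugated orbits and limits
-/

set_option autoImplicit false
set_option linter.style.haveILetI false

universe u

open LaurentPolynomial TensorProduct WithConv

namespace Groth.Agent.H20Dyn

noncomputable section

variable {k : Type u} [CommRing k] {A : Type u} [CommRing A] [HopfAlgebra k A]

/-- Points with values in any algebra form a group under convolution. -/
scoped instance (priority := high) ptGroup {R : Type u} [CommRing R] [Algebra k R] :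
    Group (WithConv (A →ₐ[k] R)) :=
  { (inferInstance : Monoid (WithConv (A →ₐ[k] R))) with
    inv := fun u => toConv (u.ofConv.comp (HopfAlgebra.antipodeAlgHom k A))
    inv_mul_cancel := fun u => by
      refine ofConv_injective (AlgHom.toLinearMap_injective ?_)
      have h := LinearMap.algHom_comp_convMul_distrib u.ofConv (toConv (HopfAlgebra.antipode k (A := A)))
        (toConv LinearMap.id)
      rw [LinearMap.antipode_mul_id] at h
      exact Eq.trans h.symm (LinearMap.ext fun c => u.ofConv.commutes _) }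

/-- Composition with an algebra map, on groups of points. -/
def post {R R' : Type u} [CommRing R] [Algebra k R] [CommRing R'] [Algebra k R'] (φ : R →ₐ[k] R') :
    WithConv (A →ₐ[k] R) →* WithConv (A →ₐ[k] R') where
  toFun g := toConv (φ.comp g.ofConv)
  map_one' := ofConv_injective (AlgHom.ext fun a => by
    show φ (algebraMap k R (Coalgebra.counit a)) = algebraMap k R' (Coalgebra.counit a)
    exact φ.commutes _)
  map_mul' f g := ofConv_injective (AlgHom.comp_convMul_distrib φ f g)

variable {R R' R'' : Type u} [CommRing R] [Algebra k R] [CommRing R'] [Algebra k R'] [CommRing R''] [Algebra k R'']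

@[simp]
theorem post_ofConv (φ : R →ₐ[k] R') (g : WithConv (A →ₐ[k] R)) : (post φ g).ofConv = φ.comp g.ofConv := rfl

theorem post_post (φ : R →ₐ[k] R') (ψ : R' →ₐ[k] R'') (g : WithConv (A →ₐ[k] R)) :
    post ψ (post φ g) = post (ψ.comp φ) g := rfl

theorem post_injective {φ : R →ₐ[k] R'} (hφ : Function.Injective φ) :
    Function.Injective (post φ : WithConv (A →ₐ[k] R) →* WithConv (A →ₐ[k] R')) := fun f g h =>
  ofConv_injective (AlgHom.ext fun a => hφ (AlgHom.congr_fun (congrArg ofConv h) a))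

theorem conv3_eq (f g h : A →ₐ[k] R) :
    Dyn.conv3 k A f g h = (toConv f * toConv g * toConv h).ofConv := by
  refine AlgHom.ext fun a => ?_
  show Algebra.TensorProduct.lmul' k (S := R) (Algebra.TensorProduct.map
      ((Algebra.TensorProduct.lmul' k (S := R)).comp (Algebra.TensorProduct.map f g)) h
      (Algebra.TensorProduct.map (Bialgebra.comulAlgHom k A) (AlgHom.id k A) (Bialgebra.comulAlgHom k A a))) =
    Algebra.TensorProduct.lmul' k (S := R) (Algebra.TensorProduct.map
      (((Algebra.TensorProduct.lmul' k (S := R)).comp (Algebra.TensorProduct.map f g)).comp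
        (Bialgebra.comulAlgHom k A)) h (Bialgebra.comulAlgHom k A a))
  congr 1
  generalize Bialgebra.comulAlgHom k A a = z
  induction z using TensorProduct.induction_on with
  | zero => simp
  | tmul p q => simp
  | add p q hp hq => simp only [map_add, hp, hq]

/-- The character of `k[T;T⁻¹]` attached to a unit. -/
def chi {C : Type u} [CommRing C] [Algebra k C] (x : Cˣ) : k[T;T⁻¹] →ₐ[k] C :=
  AddMonoidAlgebra.lift k C ℤ ((Units.coeHom C).comp (zpowersHom Cˣ x))

theorem chi_T {C : Type u} [CommRing C] [Algebra k C] (x : Cˣ) (n : ℤ) : chi (k := k) x (T n) = (x ^ n : Cˣ) := by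
  show AddMonoidAlgebra.lift k C ℤ _ (AddMonoidAlgebra.single n 1) = _
  rw [AddMonoidAlgebra.lift_single, one_smul]
  rfl

theorem hom_ext_T {C : Type u} [CommRing C] [Algebra k C] {f g : k[T;T⁻¹] →ₐ[k] C}
    (h : ∀ n, f (T n) = g (T n)) : f = g := by
  refine AlgHom.ext fun x => ?_
  induction x using AddMonoidAlgebra.induction_linear with
  | zero => simp
  | add p q hp hq => rw [map_add, map_add, hp, hq]
  | single m c =>
    have e : (AddMonoidAlgebra.single m c : k[T;T⁻¹]) = c • T m := by
      show _ = c • AddMonoidAlgebra.single m (1 : k)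
      rw [AddMonoidAlgebra.smul_single, smul_eq_mul, mul_one]
    rw [e, map_smul, map_smul, h m]

theorem chi_mul {C : Type u} [CommRing C] [Algebra k C] (x y : Cˣ) :
    toConv (chi (k := k) (x * y)) = toConv (chi x) * toConv (chi y) := by
  refine ofConv_injective (hom_ext_T fun n => ?_)
  show chi (x * y) (T n) =
    Algebra.TensorProduct.lmul' k (S := C) (Algebra.TensorProduct.map (chi x) (chi y) (Coalgebra.comul (T n : k[T;T⁻¹])))
  rw [LaurentPolynomial.comul_T, Algebra.TensorProduct.map_tmul, Algebra.TensorProduct.lmul'_apply_tmul,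
    chi_T, chi_T, chi_T, mul_zpow, Units.val_mul]

variable (lam : A →ₐc[k] k[T;T⁻¹])

/-- The point of the group attached to a unit through the one-parameter subgroup. -/
def pt {C : Type u} [CommRing C] [Algebra k C] : Cˣ →* WithConv (A →ₐ[k] C) where
  toFun x := toConv ((chi x).comp (lam : A →ₐ[k] k[T;T⁻¹]))
  map_one' := by
    have h : ∀ x : Cˣ, toConv ((chi (k := k) (x * x)).comp (lam : A →ₐ[k] k[T;T⁻¹])) =
        toConv ((chi x).comp (lam : A →ₐ[k] k[T;T⁻¹])) * toConv ((chi x).comp (lam : A →ₐ[k] k[T;T⁻¹])) := fun x => by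
      refine ofConv_injective ?_
      show (chi (k := k) (x * x)).comp (lam : A →ₐ[k] k[T;T⁻¹]) = _
      rw [← ofConv_toConv (chi (k := k) (x * x)), chi_mul, AlgHom.convMul_comp_bialgHom_distrib]
    have h1 := h 1
    rw [one_mul] at h1
    exact (mul_eq_left (a := toConv ((chi (k := k) (1 : Cˣ)).comp (lam : A →ₐ[k] k[T;T⁻¹])))).1 h1.symm
  map_mul' x y := by
    refine ofConv_injective ?_
    show (chi (k := k) (x * y)).comp (lam : A →ₐ[k] k[T;T⁻¹]) = _
    rw [← ofConv_toConv (chi (k := k) (x * y)), chi_mul, AlgHom.convMul_comp_bialgHom_distrib]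

theorem post_pt {C C' : Type u} [CommRing C] [Algebra k C] [CommRing C'] [Algebra k C'] (φ : C →ₐ[k] C') (x : Cˣ) :
    post φ (pt lam x) = pt lam (Units.map φ.toRingHom.toMonoidHom x) := by
  refine ofConv_injective ?_
  show φ.comp ((chi x).comp (lam : A →ₐ[k] k[T;T⁻¹])) = (chi _).comp (lam : A →ₐ[k] k[T;T⁻¹])
  rw [← AlgHom.comp_assoc]
  congr 1
  refine hom_ext_T fun n => ?_
  rw [AlgHom.comp_apply, chi_T, chi_T, ← map_zpow]
  rfl

variable (R) in
/-- The variable, as a unit. -/
def Tu : (R[T;T⁻¹])ˣ := (LaurentPolynomial.isUnit_T 1).unit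

theorem Tu_zpow (n : ℤ) : ((Tu R ^ n : (R[T;T⁻¹])ˣ) : R[T;T⁻¹]) = T n := by
  induction n using Int.induction_on with
  | zero => simp
  | succ n ih => rw [zpow_add_one, Units.val_mul, ih, T_add]; rfl
  | pred n ih =>
    rw [zpow_sub_one, Units.val_mul, ih]
    refine (Units.mul_inv_eq_iff_eq_mul _).2 ?_
    show T _ = T _ * T 1
    rw [← T_add, sub_add_cancel]

variable (k R) in
/-- The constants, as a map of k-algebras. -/
def cst : R →ₐ[k] R[T;T⁻¹] := IsScalarTower.toAlgHom k R R[T;T⁻¹]

variable (R) in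
/-- Coefficientwise map of Laurent polynomials. -/
abbrev mapL (φ : R →ₐ[k] R') : R[T;T⁻¹] →ₐ[k] R'[T;T⁻¹] := AddMonoidAlgebra.mapAlgHom ℤ φ

theorem mapL_single (φ : R →ₐ[k] R') (n : ℤ) (c : R) :
    mapL R φ (AddMonoidAlgebra.single n c) = AddMonoidAlgebra.single n (φ c) := by
  refine AddMonoidAlgebra.coeff_injective (Finsupp.ext fun m => ?_)
  rw [mapL, AddMonoidAlgebra.coeff_mapAlgHom, AddMonoidAlgebra.coeff_single, AddMonoidAlgebra.coeff_single]
  exact (Finsupp.mapRange_single (hf := map_zero φ) (a := n) (b := c)) ▸ rfl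

theorem lamR_eq : toConv (Dyn.lamR k A lam R) = pt lam (Tu R) := by
  refine ofConv_injective ?_
  show (AddMonoidAlgebra.mapAlgHom ℤ (Algebra.ofId k R)).comp (lam : A →ₐ[k] k[T;T⁻¹]) =
    (chi (Tu R)).comp (lam : A →ₐ[k] k[T;T⁻¹])
  congr 1
  refine hom_ext_T fun n => ?_
  rw [chi_T, Tu_zpow]
  show mapL k (Algebra.ofId k R) (AddMonoidAlgebra.single n 1) = AddMonoidAlgebra.single n 1
  rw [mapL_single, map_one]

/-- Conjugation by the one-parameter subgroup, as a homomorphism. -/
def conjHom : WithConv (A →ₐ[k] R) →* WithConv (A →ₐ[k] R[T;T⁻¹]) :=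
  (MulAut.conj (pt lam (Tu R))).toMonoidHom.comp (post (cst k R))

theorem conjHom_apply (g : WithConv (A →ₐ[k] R)) :
    conjHom lam g = pt lam (Tu R) * post (cst k R) g * (pt lam (Tu R))⁻¹ := rfl

theorem conjOrbit_eq (g : A →ₐ[k] R) : Dyn.conjOrbit k A lam R g = (conjHom lam (toConv g)).ofConv := by
  rw [Dyn.conjOrbit, conv3_eq, conjHom_apply, ← lamR_eq]
  rfl

theorem post_conjHom (φ : R →ₐ[k] R') (g : WithConv (A →ₐ[k] R)) :
    post (mapL R φ) (conjHom lam g) = conjHom lam (post φ g) := by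
  have h1 : Units.map (mapL R φ).toRingHom.toMonoidHom (Tu R) = Tu R' :=
    Units.ext (by
      show mapL R φ (AddMonoidAlgebra.single 1 1) = AddMonoidAlgebra.single 1 1
      rw [mapL_single, map_one])
  have h2 : (mapL R φ).comp (cst k R) = (cst k R').comp φ := AlgHom.ext fun r => by
    show mapL R φ (algebraMap R R[T;T⁻¹] r) = algebraMap R' R'[T;T⁻¹] (φ r)
    show mapL R φ (AddMonoidAlgebra.single 0 r) = AddMonoidAlgebra.single 0 (φ r)
    exact mapL_single φ 0 r
  rw [conjHom_apply, conjHom_apply, map_mul, map_mul, map_inv, post_pt, h1, post_post, h2, ← post_post]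

variable (k A) in
/-- The universal conjugated orbit. -/
def theta (lam : A →ₐc[k] k[T;T⁻¹]) : A →ₐ[k] A[T;T⁻¹] := (conjHom lam (toConv (AlgHom.id k A))).ofConv

theorem conjHom_eq_theta (g : WithConv (A →ₐ[k] R)) :
    (conjHom lam g).ofConv = (mapL A g.ofConv).comp (theta k A lam) := by
  have h := congrArg ofConv (post_conjHom lam g.ofConv (toConv (AlgHom.id k A)))
  rw [post_ofConv] at h
  exact h.symm

theorem coeff_conjHom (g : WithConv (A →ₐ[k] R)) (a : A) (n : ℤ) :
    ((conjHom lam g).ofConv a).coeff n = g.ofConv ((theta k A lam a).coeff n) := by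
  rw [conjHom_eq_theta, AlgHom.comp_apply]
  exact AddMonoidAlgebra.coeff_mapAlgHom _ _ _

/-- Evaluation at one. -/
def ev1 : R[T;T⁻¹] →ₐ[k] R := (AddMonoidAlgebra.lift R R ℤ 1).restrictScalars k

theorem ev1_T (n : ℤ) : ev1 (k := k) (T n : R[T;T⁻¹]) = 1 := by
  show AddMonoidAlgebra.lift R R ℤ 1 (AddMonoidAlgebra.single n 1) = 1
  rw [AddMonoidAlgebra.lift_single, one_smul]
  rfl

theorem post_ev1_conjHom (g : WithConv (A →ₐ[k] R)) : post (ev1 (k := k)) (conjHom lam g) = g := by
  have h1 : Units.map (ev1 (k := k) (R := R)).toRingHom.toMonoidHom (Tu R) = 1 := Units.ext (ev1_T 1)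
  have h2 : (ev1 (k := k) (R := R)).comp (cst k R) = AlgHom.id k R := AlgHom.ext fun r => by
    show AddMonoidAlgebra.lift R R ℤ 1 (algebraMap R R[T;T⁻¹] r) = r
    rw [AlgHom.commutes]
    rfl
  rw [conjHom_apply, map_mul, map_mul, map_inv, post_pt, h1, map_one, one_mul, inv_one, mul_one, post_post, h2]
  rfl

theorem ev1_eq_sum (f : R[T;T⁻¹]) : ev1 (k := k) f = ∑ n ∈ f.coeff.support, f.coeff n := by
  conv_lhs => rw [← AddMonoidAlgebra.sum_coeff_single f]
  rw [Finsupp.sum, map_sum]
  refine Finset.sum_congr rfl fun n _ => ?_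
  show AddMonoidAlgebra.lift R R ℤ 1 (AddMonoidAlgebra.single n _) = _
  rw [AddMonoidAlgebra.lift_single]
  simp

/-- Every element is the sum of its components. -/
theorem eq_sum_theta (a : A) : a = ∑ n ∈ (theta k A lam a).coeff.support, (theta k A lam a).coeff n := by
  rw [← ev1_eq_sum (k := k)]
  exact (AlgHom.congr_fun (congrArg ofConv (post_ev1_conjHom lam (toConv (AlgHom.id k A)))) a).symm

variable (k R) in
/-- The substitution `T ↦ T S` into Laurent polynomials in `S` over Laurent polynomials in `T`. -/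
def twist : R[T;T⁻¹] →ₐ[k] R[T;T⁻¹][T;T⁻¹] :=
  (AddMonoidAlgebra.lift R R[T;T⁻¹][T;T⁻¹] ℤ
    ((Units.coeHom _).comp (zpowersHom _ (Tu R[T;T⁻¹] * Units.map (cst k R[T;T⁻¹]).toRingHom.toMonoidHom (Tu R))))).restrictScalars k

theorem twist_single (n : ℤ) (c : R) :
    twist k R (AddMonoidAlgebra.single n c) = AddMonoidAlgebra.single n (AddMonoidAlgebra.single n c) := by
  show AddMonoidAlgebra.lift R R[T;T⁻¹][T;T⁻¹] ℤ _ (AddMonoidAlgebra.single n c) = _
  rw [AddMonoidAlgebra.lift_single]
  show c • ((Tu R[T;T⁻¹] * Units.map (cst k R[T;T⁻¹]).toRingHom.toMonoidHom (Tu R)) ^ n : (R[T;T⁻¹][T;T⁻¹])ˣ).1 = _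
  rw [mul_zpow, Units.val_mul, Tu_zpow, ← map_zpow, Units.coe_map, Algebra.smul_def]
  show algebraMap R R[T;T⁻¹][T;T⁻¹] c * (T n * algebraMap R[T;T⁻¹] R[T;T⁻¹][T;T⁻¹] ((Tu R ^ n : (R[T;T⁻¹])ˣ) : R[T;T⁻¹])) = _
  rw [Tu_zpow, IsScalarTower.algebraMap_apply R R[T;T⁻¹] R[T;T⁻¹][T;T⁻¹], mul_left_comm, ← map_mul]
  have h : algebraMap R R[T;T⁻¹] c * T n = AddMonoidAlgebra.single n c :=
    (LaurentPolynomial.single_eq_C_mul_T c n).symm
  rw [h, mul_comm]
  exact (LaurentPolynomial.single_eq_C_mul_T _ n).symm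

theorem conj_conj {G : Type u} [Group G] (a b x : G) : a * (b * x * b⁻¹) * a⁻¹ = a * b * x * (a * b)⁻¹ := by
  group

/-- Conjugating twice: the product of the parameters. -/
theorem conjHom_conjHom (g : WithConv (A →ₐ[k] R)) :
    conjHom lam (conjHom lam g) = post (twist k R) (conjHom lam g) := by
  have hT : Units.map (twist k R).toRingHom.toMonoidHom (Tu R) =
      Tu R[T;T⁻¹] * Units.map (cst k R[T;T⁻¹]).toRingHom.toMonoidHom (Tu R) := by
    refine Units.ext ?_
    show twist k R (T 1) = _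
    show AddMonoidAlgebra.lift R R[T;T⁻¹][T;T⁻¹] ℤ _ (AddMonoidAlgebra.single (1 : ℤ) (1 : R)) = _
    rw [AddMonoidAlgebra.lift_single, one_smul]
    exact congrArg Units.val (zpow_one _)
  have hc : (twist k R).comp (cst k R) = (cst k R[T;T⁻¹]).comp (cst k R) := AlgHom.ext fun r => by
    show AddMonoidAlgebra.lift R R[T;T⁻¹][T;T⁻¹] ℤ _ (algebraMap R R[T;T⁻¹] r) =
      algebraMap R[T;T⁻¹] R[T;T⁻¹][T;T⁻¹] (algebraMap R R[T;T⁻¹] r)
    rw [AlgHom.commutes]
    exact IsScalarTower.algebraMap_apply _ _ _ r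
  rw [conjHom_apply lam (conjHom lam g), conjHom_apply lam g]
  simp only [map_mul, map_inv, post_pt, post_post, hT, hc]
  exact (conj_conj _ _ _)

/-- The components are homogeneous. -/
theorem theta_coeff (a : A) (n : ℤ) :
    theta k A lam ((theta k A lam a).coeff n) = AddMonoidAlgebra.single n ((theta k A lam a).coeff n) := by
  have h := AlgHom.congr_fun (congrArg ofConv (conjHom_conjHom lam (toConv (AlgHom.id k A)))) a
  have hl : ((conjHom lam (conjHom lam (toConv (AlgHom.id k A)))).ofConv a).coeff n =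
      theta k A lam ((theta k A lam a).coeff n) := coeff_conjHom lam _ a n
  rw [← hl, h, post_ofConv, AlgHom.comp_apply]
  show (twist k A (theta k A lam a)).coeff n = _
  generalize theta k A lam a = f
  induction f using AddMonoidAlgebra.induction_linear with
  | zero => simp
  | add p q hp hq => rw [map_add, AddMonoidAlgebra.coeff_add, Finsupp.add_apply, hp, hq,
      AddMonoidAlgebra.coeff_add, Finsupp.add_apply, AddMonoidAlgebra.single_add]
  | single m c =>
    rw [twist_single]
    by_cases h : m = n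
    · subst h; simp [-single_eq_C_mul_T]
    · simp [-single_eq_C_mul_T, Finsupp.single_apply, h]

variable (k R) in
/-- Polynomials inside Laurent polynomials. -/
def toL : Polynomial R →ₐ[k] R[T;T⁻¹] := (Polynomial.toLaurentAlg (R := R)).restrictScalars k

theorem toL_injective : Function.Injective (toL k R) := Polynomial.toLaurent_injective

theorem toL_monomial (n : ℕ) (c : R) : toL k R (Polynomial.monomial n c) = AddMonoidAlgebra.single (n : ℤ) c := by
  show Polynomial.toLaurent (Polynomial.monomial n c) = _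
  rw [← Polynomial.C_mul_X_pow_eq_monomial, Polynomial.toLaurent_C_mul_X_pow]
  exact (LaurentPolynomial.single_eq_C_mul_T c n).symm

theorem coeff_toL (p : Polynomial R) (n : ℕ) : (toL k R p).coeff (n : ℤ) = p.coeff n := by
  induction p using Polynomial.induction_on' with
  | add p q hp hq => rw [map_add, AddMonoidAlgebra.coeff_add, Finsupp.add_apply, hp, hq, Polynomial.coeff_add]
  | monomial m c =>
    rw [toL_monomial, Polynomial.coeff_monomial]
    simp [-single_eq_C_mul_T, Finsupp.single_apply]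

theorem coeff_toL_neg (p : Polynomial R) {n : ℤ} (hn : n < 0) : (toL k R p).coeff n = 0 := by
  induction p using Polynomial.induction_on' with
  | add p q hp hq => rw [map_add, AddMonoidAlgebra.coeff_add, Finsupp.add_apply, hp, hq, add_zero]
  | monomial m c =>
    rw [toL_monomial]
    simp [-single_eq_C_mul_T, Finsupp.single_apply, show (m : ℤ) ≠ n by omega]

variable (R) in
/-- Points whose orbit has a limit. -/
def limSubgroup : Subgroup (WithConv (A →ₐ[k] R)) := (post (toL k R)).range.comap (conjHom lam)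

variable (R) in
/-- Evaluation at zero. -/
def ev0 : Polynomial R →ₐ[k] R := (Polynomial.aeval (R := R) (0 : R)).restrictScalars k

variable (R) in
/-- Points whose orbit tends to one. -/
def limOneSubgroup : Subgroup (WithConv (A →ₐ[k] R)) :=
  ((post (ev0 (k := k) R)).ker.map (post (toL k R))).comap (conjHom lam)

theorem limExists_iff_mem (g : A →ₐ[k] R) : Dyn.LimExists k A lam R g ↔ toConv g ∈ limSubgroup R lam := by
  show (∃ h, (toL k R).comp h = _) ↔ ∃ h, post (toL k R) h = conjHom lam (toConv g)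
  rw [conjOrbit_eq]
  exact ⟨fun ⟨h, hh⟩ => ⟨toConv h, ofConv_injective hh⟩, fun ⟨h, hh⟩ => ⟨h.ofConv, congrArg ofConv hh⟩⟩

theorem limIsOne_iff_mem (g : A →ₐ[k] R) : Dyn.LimIsOne k A lam R g ↔ toConv g ∈ limOneSubgroup R lam := by
  show (∃ h, (toL k R).comp h = _ ∧ (ev0 (k := k) R).comp h = _) ↔
    ∃ h, post (ev0 (k := k) R) h = 1 ∧ post (toL k R) h = conjHom lam (toConv g)
  rw [conjOrbit_eq]
  exact ⟨fun ⟨h, hh, h0⟩ => ⟨toConv h, ofConv_injective h0, ofConv_injective hh⟩,
    fun ⟨h, h0, hh⟩ => ⟨h.ofConv, congrArg ofConv hh, congrArg ofConv h0⟩⟩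

theorem limExists_iff (g : A →ₐ[k] R) :
    Dyn.LimExists k A lam R g ↔ ∀ (a : A) (n : ℤ), n < 0 → g ((theta k A lam a).coeff n) = 0 := by
  show (∃ h, (toL k R).comp h = _) ↔ _
  rw [conjOrbit_eq]
  constructor
  · rintro ⟨h, hh⟩ a n hn
    rw [show g ((theta k A lam a).coeff n) = ((conjHom lam (toConv g)).ofConv a).coeff n from
      (coeff_conjHom lam (toConv g) a n).symm, ← hh]
    exact coeff_toL_neg (k := k) (h a) hn
  · intro hg
    have hmem : ∀ a, (conjHom lam (toConv g)).ofConv a ∈ (toL k R).range := by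
      intro a
      rw [← AddMonoidAlgebra.sum_coeff_single ((conjHom lam (toConv g)).ofConv a)]
      refine sum_mem fun n _ => ?_
      rcases lt_or_ge n 0 with hn | hn
      · show AddMonoidAlgebra.single n _ ∈ _
        rw [coeff_conjHom, show (toConv g).ofConv ((theta k A lam a).coeff n) = 0 from hg a n hn,
          AddMonoidAlgebra.single_zero]
        exact zero_mem _
      · obtain ⟨m, rfl⟩ := Int.eq_ofNat_of_zero_le hn
        exact ⟨Polynomial.monomial m _, toL_monomial m _⟩
    refine ⟨(AlgEquiv.ofInjective (toL k R) toL_injective).symm.toAlgHom.comp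
      ((conjHom lam (toConv g)).ofConv.codRestrict _ hmem), AlgHom.ext fun a => ?_⟩
    exact congrArg Subtype.val ((AlgEquiv.ofInjective (toL k R) toL_injective).apply_symm_apply ⟨_, hmem a⟩)

theorem limIsOne_iff (g : A →ₐ[k] R) : Dyn.LimIsOne k A lam R g ↔
    Dyn.LimExists k A lam R g ∧
      ∀ a : A, g ((theta k A lam a).coeff 0) = algebraMap k R (Coalgebra.counit (R := k) a) := by
  have key : ∀ h : A →ₐ[k] Polynomial R, (toL k R).comp h = Dyn.conjOrbit k A lam R g →
      ∀ a, ev0 (k := k) R (h a) = g ((theta k A lam a).coeff 0) := by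
    intro h hh a
    rw [conjOrbit_eq] at hh
    rw [show g ((theta k A lam a).coeff 0) = ((conjHom lam (toConv g)).ofConv a).coeff 0 from
      (coeff_conjHom lam (toConv g) a 0).symm, ← hh, AlgHom.comp_apply, ← Nat.cast_zero, coeff_toL]
    show Polynomial.aeval (0 : R) (h a) = _
    rw [Polynomial.coe_aeval_eq_eval, Polynomial.coeff_zero_eq_eval_zero]
  constructor
  · rintro ⟨h, hh, h0⟩
    exact ⟨⟨h, hh⟩, fun a => by rw [← key h hh a]; exact AlgHom.congr_fun h0 a⟩
  · rintro ⟨⟨h, hh⟩, hg⟩
    exact ⟨h, hh, AlgHom.ext fun a => (key h hh a).trans (hg a)⟩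

end

end Groth.Agent.H20Dyn
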