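import Groth.Agent.H20Dyn.Smooth
import Mathlib

/-!
# The big cell of a smooth affine group
-/

set_option autoImplicit false
set_option linter.style.haveILetI false

universe u

open LaurentPolynomial TensorProduct WithConv CategoryTheory AlgebraicGeometry

namespace Groth.Agent.H20Dyn

noncomputable section

variable {k : Type u} [CommRing k] {A : Type u} [CommRing A] [HopfAlgebra k A]
variable (lam : A →ₐc[k] k[T;T⁻¹]) {R : Type u} [CommRing R] [Algebra k R]

theorem represents_unique {P : ∀ (R : Type u) [CommRing R] [Algebra k R], (A →ₐ[k] R) → Prop} {J J' : Ideal A}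
    (hJ : Dyn.Represents k A J P) (hJ' : Dyn.Represents k A J' P) : J = J' := by
  refine le_antisymm (fun a ha => ?_) (fun a ha => ?_)
  · exact Ideal.Quotient.eq_zero_iff_mem.1
      ((hJ (A ⧸ J') (Ideal.Quotient.mkₐ k J')).2 ((hJ' _ _).1 fun b hb => Ideal.Quotient.eq_zero_iff_mem.2 hb) a ha)
  · exact Ideal.Quotient.eq_zero_iff_mem.1
      ((hJ' (A ⧸ J) (Ideal.Quotient.mkₐ k J)).2 ((hJ _ _).1 fun b hb => Ideal.Quotient.eq_zero_iff_mem.2 hb) a ha)

theorem fg_posIdeal [Algebra.FiniteType k A] : (posIdeal lam).FG := by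
  classical
  obtain ⟨t, ht⟩ := ‹Algebra.FiniteType k A›.out
  let S : Finset A := t.biUnion fun a =>
    ((theta k A lam a).coeff.support.filter (· < 0)).image fun n => (theta k A lam a).coeff n
  have hle : Ideal.span (S : Set A) ≤ posIdeal lam := by
    refine Ideal.span_le.2 fun x hx => ?_
    obtain ⟨a, -, hx⟩ := Finset.mem_biUnion.1 hx
    obtain ⟨n, hn, rfl⟩ := Finset.mem_image.1 hx
    exact Ideal.subset_span ⟨a, n, (Finset.mem_filter.1 hn).2, rfl⟩
  refine ⟨S, le_antisymm hle fun x hx => Ideal.Quotient.eq_zero_iff_mem.1 ?_⟩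
  let q : A →ₐ[k] A ⧸ Ideal.span (S : Set A) := Ideal.Quotient.mkₐ k _
  refine (posIdeal_represents lam _ q).2 ((limExists_iff_mem lam q).2 ?_) x hx
  refine (mem_range_post_iff toL_injective _).2 fun a => ?_
  have h : Algebra.adjoin k (t : Set A) ≤ (toL k (A ⧸ Ideal.span (S : Set A))).range.comap
      (conjHom lam (toConv q)).ofConv := by
    refine Algebra.adjoin_le fun b hb => ?_
    refine sum_single_mem_of_coeff _ _ fun n => single_mem_range_toL fun hn => ?_
    show ((conjHom lam (toConv q)).ofConv b).coeff n = 0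
    rw [coeff_conjHom]
    by_cases h0 : (theta k A lam b).coeff n = 0
    · rw [h0, map_zero]
    · exact Ideal.Quotient.eq_zero_iff_mem.2 (Ideal.subset_span (Finset.mem_biUnion.2 ⟨b, hb,
        Finset.mem_image.2 ⟨n, Finset.mem_filter.2 ⟨Finsupp.mem_support_iff.2 h0, hn⟩, rfl⟩⟩))
  exact h (ht ▸ Algebra.mem_top)

theorem coeff_zero_mul (g : A →ₐ[k] R) (hg : Dyn.LimExists k A lam R g) :
    ∃ z : A →ₐ[k] R, ∀ a, z a = g ((theta k A lam a).coeff 0) := by
  obtain ⟨h, hh⟩ := (limExists_iff_mem lam g).1 hg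
  refine ⟨(post (ev0 (k := k) R) h).ofConv, fun a => ?_⟩
  rw [← show ((conjHom lam (toConv g)).ofConv a).coeff 0 = g ((theta k A lam a).coeff 0) from
    coeff_conjHom lam (toConv g) a 0, ← hh]
  show Polynomial.aeval (0 : R) (h.ofConv a) = (toL k R (h.ofConv a)).coeff ((0 : ℕ) : ℤ)
  rw [coeff_toL, Polynomial.coe_aeval_eq_eval, Polynomial.coeff_zero_eq_eval_zero]

theorem fg_oneIdeal [Algebra.FiniteType k A] : (oneIdeal lam).FG := by
  classical
  obtain ⟨t, ht⟩ := ‹Algebra.FiniteType k A›.out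
  let w : A → A := fun a => (theta k A lam a).coeff 0 - algebraMap k A (Coalgebra.counit (R := k) a)
  suffices h : oneIdeal lam = posIdeal lam ⊔ Ideal.span (↑(t.image w) : Set A) by
    rw [h]; exact Submodule.FG.sup (fg_posIdeal lam) ⟨t.image w, rfl⟩
  refine le_antisymm (fun x hx => ?_) (sup_le_sup le_rfl (Ideal.span_mono fun y hy => ?_))
  · let J := posIdeal lam ⊔ Ideal.span (↑(t.image w) : Set A)
    let q : A →ₐ[k] A ⧸ J := Ideal.Quotient.mkₐ k J
    refine Ideal.Quotient.eq_zero_iff_mem.1 ((oneIdeal_represents lam _ q).2 ?_ x hx)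
    have hlim : Dyn.LimExists k A lam (A ⧸ J) q := (posIdeal_represents lam _ q).1 fun a ha =>
      Ideal.Quotient.eq_zero_iff_mem.2 (Ideal.mem_sup_left ha)
    refine (limIsOne_iff lam q).2 ⟨hlim, fun a => ?_⟩
    obtain ⟨z, hz⟩ := coeff_zero_mul lam q hlim
    rw [← hz]
    refine AlgHom.congr_fun (AlgHom.ext_of_adjoin_eq_top ht fun b hb => ?_ :
      z = (Algebra.ofId k (A ⧸ J)).comp (Bialgebra.counitAlgHom k A)) a
    rw [hz]
    show _ = algebraMap k (A ⧸ J) (Coalgebra.counit (R := k) b)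
    rw [← sub_eq_zero, ← q.commutes, ← map_sub]
    exact Ideal.Quotient.eq_zero_iff_mem.2 (Ideal.mem_sup_right
      (Ideal.subset_span (Finset.mem_image_of_mem w hb)))
  · obtain ⟨a, -, rfl⟩ := Finset.mem_image.1 hy
    exact ⟨a, rfl⟩

theorem formallySmooth_quotient_of_lift (J : Ideal A) (H : ∀ (R : Type u) [CommRing R] [Algebra k R],
      Subgroup (WithConv (A →ₐ[k] R)))
    (hJ : ∀ (R : Type u) [CommRing R] [Algebra k R] (g : A →ₐ[k] R), (∀ a ∈ J, g a = 0) ↔ toConv g ∈ H R)
    (hlift : ∀ {R R' : Type u} [CommRing R] [Algebra k R] [CommRing R'] [Algebra k R'] (φ : R →ₐ[k] R'),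
      Function.Surjective φ → (∀ x y, φ x = 0 → φ y = 0 → x * y = 0) →
      ∀ gb ∈ H R', ∃ g ∈ H R, post φ g = gb) :
    Algebra.FormallySmooth k (A ⧸ J) := by
  refine Algebra.FormallySmooth.of_comp_surjective fun B _ _ I hI f => ?_
  obtain ⟨g, hg, he⟩ := hlift (Ideal.Quotient.mkₐ k I) Ideal.Quotient.mk_surjective
    (fun x y hx hy => Ideal.mem_bot.1 (hI ▸ pow_two I ▸ Ideal.mul_mem_mul
      (Ideal.Quotient.eq_zero_iff_mem.1 hx) (Ideal.Quotient.eq_zero_iff_mem.1 hy)))
    (toConv (f.comp (Ideal.Quotient.mkₐ k J)))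
    ((hJ _ _).1 fun a ha => by
      rw [AlgHom.comp_apply, show Ideal.Quotient.mkₐ k J a = 0 from Ideal.Quotient.eq_zero_iff_mem.2 ha, map_zero])
  refine ⟨Ideal.Quotient.liftₐ J g.ofConv ((hJ _ _).2 hg), AlgHom.ext fun x => ?_⟩
  obtain ⟨a, rfl⟩ := Ideal.Quotient.mkₐ_surjective k J x
  exact AlgHom.congr_fun (congrArg ofConv he) a

theorem smooth_posIdeal [Algebra.Smooth k A] : Algebra.Smooth k (A ⧸ posIdeal lam) where
  formallySmooth := formallySmooth_quotient_of_lift _ (fun R => limSubgroup R lam)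
    (fun R _ _ g => (posIdeal_represents lam R g).trans (limExists_iff_mem lam g))
    fun φ hφ hsq gb hgb => exists_lift_limSubgroup lam hφ hsq hgb
  finitePresentation := Algebra.FinitePresentation.quotient (fg_posIdeal lam)

theorem smooth_oneIdeal [Algebra.Smooth k A] : Algebra.Smooth k (A ⧸ oneIdeal lam) where
  formallySmooth := formallySmooth_quotient_of_lift _ (fun R => limOneSubgroup R lam)
    (fun R _ _ g => (oneIdeal_represents lam R g).trans (limIsOne_iff_mem lam g))
    fun φ hφ hsq gb hgb => exists_lift_limOneSubgroup lam hφ hsq hgb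
  finitePresentation := Algebra.FinitePresentation.quotient (fg_oneIdeal lam)

theorem mul_inv_eq_of_mul_eq_mul {G : Type u} [Group G] {a b c d : G} (h : a * b = c * d) : b * d⁻¹ = a⁻¹ * c := by
  rw [mul_inv_eq_iff_eq_mul, mul_assoc, ← h, inv_mul_cancel_left]

/-- A finitely presented algebra map with unique infinitesimal lifting which is an epimorphism gives an open immersion. -/
theorem isOpenImmersion_of_lift [Algebra.FiniteType k A] {C : Type u} [CommRing C] [Algebra k C]
    [Algebra.FinitePresentation k C] (μ : A →ₐ[k] C)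
    (hext : ∀ {B : Type u} [CommRing B] [Algebra k B] (f f' : C →ₐ[k] B), f.comp μ = f'.comp μ → f = f')
    (hlift : ∀ {B : Type u} [CommRing B] [Algebra k B] (I : Ideal B), I ^ 2 = ⊥ → ∀ (g : A →ₐ[k] B) (fb : C →ₐ[k] B ⧸ I),
      fb.comp μ = (Ideal.Quotient.mkₐ k I).comp g →
      ∃ f : C →ₐ[k] B, f.comp μ = g ∧ (Ideal.Quotient.mkₐ k I).comp f = fb) :
    IsOpenImmersion (Spec.map (CommRingCat.ofHom μ.toRingHom)) := by
  letI : Algebra A C := μ.toRingHom.toAlgebra
  haveI : IsScalarTower k A C := IsScalarTower.of_algebraMap_eq fun c => (μ.commutes c).symm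
  haveI : Algebra.FinitePresentation A C := Algebra.FinitePresentation.of_restrict_scalars_finitePresentation k A C
  haveI : Algebra.FormallyEtale A C := by
    rw [Algebra.FormallyEtale.iff_comp_bijective]
    intro B _ _ I hI
    letI : Algebra k B := ((algebraMap A B).comp (algebraMap k A)).toAlgebra
    haveI : IsScalarTower k A B := IsScalarTower.of_algebraMap_eq fun _ => rfl
    refine ⟨fun f f' h => AlgHom.restrictScalars_injective k (hext _ _ (AlgHom.ext fun a => ?_)), fun fb => ?_⟩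
    · exact (f.commutes a).trans (f'.commutes a).symm
    · obtain ⟨f, hf, hf'⟩ := hlift I hI (IsScalarTower.toAlgHom k A B) (fb.restrictScalars k)
        (AlgHom.ext fun a => fb.commutes a)
      exact ⟨{ f with commutes' := fun a => AlgHom.congr_fun hf a }, AlgHom.ext fun x => AlgHom.congr_fun hf' x⟩
  haveI : Algebra.Etale A C := ⟨inferInstance, inferInstance⟩
  have hfl : μ.toRingHom.Flat := (inferInstance : Module.Flat A C)
  have hfp : μ.toRingHom.FinitePresentation := (inferInstance : Algebra.FinitePresentation A C)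
  haveI : Flat (Spec.map (CommRingCat.ofHom μ.toRingHom)) := (HasRingHomProperty.Spec_iff (P := @Flat)).2 hfl
  haveI : LocallyOfFinitePresentation (Spec.map (CommRingCat.ofHom μ.toRingHom)) :=
    (HasRingHomProperty.Spec_iff (P := @LocallyOfFinitePresentation)).2 hfp
  haveI : Epi (CommRingCat.ofHom μ.toRingHom) := by
    refine ⟨fun {Z} a b h => CommRingCat.hom_ext ?_⟩
    letI : Algebra k Z := (a.hom.comp (algebraMap k C)).toAlgebra
    have hk : ∀ c : k, b.hom (algebraMap k C c) = a.hom (algebraMap k C c) := fun c => by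
      rw [← μ.commutes c]
      exact (congrArg (fun F => F.hom (algebraMap k A c)) h).symm
    have e := hext (B := Z) { a.hom with commutes' := fun c => rfl } { b.hom with commutes' := hk }
      (AlgHom.ext fun x => congrArg (fun F => F.hom x) h)
    exact RingHom.ext fun x => AlgHom.congr_fun e x
  haveI : Mono (Spec.map (CommRingCat.ofHom μ.toRingHom)) :=
    inferInstanceAs (Mono (Scheme.Spec.map (CommRingCat.ofHom μ.toRingHom).op))
  exact IsOpenImmersion.of_flat_of_mono _

section Opposite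

variable {lamNeg : A →ₐc[k] k[T;T⁻¹]} (hneg : (lamNeg : A →ₐ[k] k[T;T⁻¹]) = Dyn.negParam k A lam)
include hneg

theorem conjHom_neg (g : WithConv (A →ₐ[k] R)) :
    conjHom lamNeg g = post ((LaurentPolynomial.invert (R := R)).toAlgHom.restrictScalars k) (conjHom lam g) := by
  set inv : R[T;T⁻¹] →ₐ[k] R[T;T⁻¹] := (LaurentPolynomial.invert (R := R)).toAlgHom.restrictScalars k with hi
  have hc : inv.comp (cst k R) = cst k R := AlgHom.ext fun r => by
    show LaurentPolynomial.invert (LaurentPolynomial.C r) = LaurentPolynomial.C r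
    exact LaurentPolynomial.invert_C r
  have hlam : pt lamNeg (Tu R) = post inv (pt lam (Tu R)) := by
    rw [← lamR_eq, ← lamR_eq]
    refine ofConv_injective ?_
    show (AddMonoidAlgebra.mapAlgHom ℤ (Algebra.ofId k R)).comp (lamNeg : A →ₐ[k] k[T;T⁻¹]) =
      inv.comp ((AddMonoidAlgebra.mapAlgHom ℤ (Algebra.ofId k R)).comp (lam : A →ₐ[k] k[T;T⁻¹]))
    rw [hneg, Dyn.negParam, ← AlgHom.comp_assoc, ← AlgHom.comp_assoc]
    congr 1
    refine hom_ext_T fun n => ?_
    show mapL k (Algebra.ofId k R) (LaurentPolynomial.invert (T n)) =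
      LaurentPolynomial.invert (mapL k (Algebra.ofId k R) (AddMonoidAlgebra.single n 1))
    rw [LaurentPolynomial.invert_T, mapL_single, map_one]
    show mapL k (Algebra.ofId k R) (AddMonoidAlgebra.single (-n) 1) = LaurentPolynomial.invert (T n)
    rw [mapL_single, map_one, LaurentPolynomial.invert_T]
    rfl
  rw [conjHom_apply, conjHom_apply, map_mul, map_mul, map_inv, hlam, post_post, hc]

theorem coeff_conjHom_neg (g : WithConv (A →ₐ[k] R)) (b : A) (n : ℤ) :
    g.ofConv ((theta k A lamNeg b).coeff n) = g.ofConv ((theta k A lam b).coeff (-n)) := by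
  rw [← coeff_conjHom, ← coeff_conjHom, conjHom_neg lam hneg, post_ofConv, AlgHom.comp_apply]
  generalize (conjHom lam g).ofConv b = f
  induction f using AddMonoidAlgebra.induction_linear with
  | zero => simp
  | add p q hp hq => rw [map_add, AddMonoidAlgebra.coeff_add, Finsupp.add_apply, hp, hq,
      AddMonoidAlgebra.coeff_add, Finsupp.add_apply]
  | single m c =>
    show (LaurentPolynomial.invert (AddMonoidAlgebra.single m c)).coeff n = _
    rw [LaurentPolynomial.single_eq_C_mul_T, map_mul, LaurentPolynomial.invert_C, LaurentPolynomial.invert_T,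
      ← LaurentPolynomial.single_eq_C_mul_T, ← LaurentPolynomial.single_eq_C_mul_T, AddMonoidAlgebra.coeff_single,
      AddMonoidAlgebra.coeff_single, Finsupp.single_apply, Finsupp.single_apply]
    exact if_congr (by omega) rfl rfl

theorem mem_limOneSubgroup_neg_iff (g : WithConv (A →ₐ[k] R)) :
    g ∈ limOneSubgroup R lamNeg ↔
      ∀ (a : A) (n : ℤ), (0 < n → g.ofConv ((theta k A lam a).coeff n) = 0) ∧
        g.ofConv ((theta k A lam a).coeff 0) = algebraMap k R (Coalgebra.counit (R := k) a) := by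
  rw [show g ∈ limOneSubgroup R lamNeg ↔ Dyn.LimIsOne k A lamNeg R g.ofConv from
    (limIsOne_iff_mem lamNeg g.ofConv).symm, limIsOne_iff, limExists_iff]
  constructor
  · rintro ⟨h1, h0⟩ a n
    refine ⟨fun hn => ?_, ?_⟩
    · rw [← neg_neg n, ← coeff_conjHom_neg lam hneg]
      exact h1 a (-n) (by omega)
    · rw [← h0 a, coeff_conjHom_neg lam hneg, neg_zero]
  · intro h
    exact ⟨fun a n hn => by rw [coeff_conjHom_neg lam hneg]; exact (h a (-n)).1 (by omega),
      fun a => by rw [coeff_conjHom_neg lam hneg, neg_zero]; exact (h a 0).2⟩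

/-- The two opposite subgroups meet trivially. -/
theorem eq_one_of_mem (g : WithConv (A →ₐ[k] R)) (hp : g ∈ limSubgroup R lam) (hm : g ∈ limOneSubgroup R lamNeg) :
    g = 1 := by
  rw [mem_limSubgroup_iff] at hp
  rw [mem_limOneSubgroup_neg_iff lam hneg] at hm
  refine ofConv_injective (AlgHom.ext fun b => ?_)
  show g.ofConv b = algebraMap k R (Coalgebra.counit (R := k) b)
  conv_lhs => rw [eq_sum_theta lam b, map_sum]
  rw [Finset.sum_eq_single (0 : ℤ)]
  · exact (hm b 0).2
  · intro m _ hm'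
    rcases lt_or_gt_of_ne hm' with h | h
    · exact hp b m h
    · exact (hm b m).1 h
  · intro h
    rw [Finsupp.notMem_support_iff.1 h, map_zero]

/-- A point congruent to one decomposes along the two subgroups. -/
theorem exists_decomp {R' : Type u} [CommRing R'] [Algebra k R'] {φ : R →ₐ[k] R'}
    (hsq : ∀ x y, φ x = 0 → φ y = 0 → x * y = 0) {E : WithConv (A →ₐ[k] R)} (hE : post φ E = 1) :
    ∃ u ∈ limOneSubgroup R lamNeg, ∃ p ∈ limSubgroup R lam, u * p = E ∧ post φ u = 1 ∧ post φ p = 1 := by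
  classical
  have hEi : post φ E⁻¹ = 1 := by rw [map_inv, hE, inv_one]
  have hx : post (mapL R φ) (conjHom lam E⁻¹) = 1 := by rw [post_conjHom, hEi, map_one]
  obtain ⟨u, hu, hu'⟩ := exists_correction hsq hx
  have hinv : ∀ (q : WithConv (A →ₐ[k] R)), post φ q = 1 → ∀ (a : A) (m : ℤ), m ≠ 0 →
      (q⁻¹).ofConv ((theta k A lam a).coeff m) = -(q.ofConv ((theta k A lam a).coeff m)) := by
    intro q hq a m hm
    have h := mul_apply_of_post_eq_one hsq (show post φ q⁻¹ = 1 by rw [map_inv, hq, inv_one]) hq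
      ((theta k A lam a).coeff m)
    rw [inv_mul_cancel, one_apply, counit_theta_coeff, if_neg hm, map_zero, sub_zero] at h
    linear_combination -h
  have hneg' : ∀ (a : A) (m : ℤ), u.ofConv ((theta k A lam a).coeff m) =
      algebraMap k R (if m = 0 then Coalgebra.counit (R := k) a else 0) -
        if m < 0 then E⁻¹.ofConv ((theta k A lam a).coeff m) else 0 := by
    intro a m
    rw [hu', counit_theta_coeff, conjHom_eq_theta, AlgHom.comp_apply, theta_coeff, mapL_single, negSum_single]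
  refine ⟨u, ?_, u⁻¹ * E, ?_, mul_inv_cancel_left u E, hu, by rw [map_mul, map_inv, hu, inv_one, one_mul, hE]⟩
  · rw [mem_limOneSubgroup_neg_iff lam hneg]
    intro a n
    refine ⟨fun hn => ?_, ?_⟩
    · rw [hneg', if_neg hn.ne', map_zero, if_neg (by omega), sub_zero]
    · rw [hneg', if_pos rfl, if_neg (lt_irrefl _), sub_zero]
  · rw [mem_limSubgroup_iff]
    intro a m hm
    rw [mul_apply_of_post_eq_one hsq (show post φ u⁻¹ = 1 by rw [map_inv, hu, inv_one]) hE, hinv u hu a m hm.ne,
      hneg', if_neg hm.ne, if_pos hm, map_zero, hinv E hE a m hm.ne, counit_theta_coeff, if_neg hm.ne, map_zero]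
    ring

variable {Jp Jm : Ideal A}
    (hp : Dyn.Represents k A Jp (fun R _ _ g => Dyn.LimExists k A lam R g))
    (hm : Dyn.Represents k A Jm (fun R _ _ g => Dyn.LimIsOne k A lamNeg R g))
include hp hm

/-- A map out of the big cell gives a pair of points and their product. -/
theorem bigCell_split (f : (A ⧸ Jm) ⊗[k] (A ⧸ Jp) →ₐ[k] R) :
    toConv ((f.comp Algebra.TensorProduct.includeLeft).comp (Ideal.Quotient.mkₐ k Jm)) ∈ limOneSubgroup R lamNeg ∧
    toConv ((f.comp Algebra.TensorProduct.includeRight).comp (Ideal.Quotient.mkₐ k Jp)) ∈ limSubgroup R lam ∧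
    toConv ((f.comp Algebra.TensorProduct.includeLeft).comp (Ideal.Quotient.mkₐ k Jm)) *
      toConv ((f.comp Algebra.TensorProduct.includeRight).comp (Ideal.Quotient.mkₐ k Jp)) =
        toConv (f.comp ((Algebra.TensorProduct.map (Ideal.Quotient.mkₐ k Jm) (Ideal.Quotient.mkₐ k Jp)).comp
          (Bialgebra.comulAlgHom k A))) := by
  refine ⟨(limIsOne_iff_mem lamNeg _).1 ((hm R _).1 fun a ha => ?_),
    (limExists_iff_mem lam _).1 ((hp R _).1 fun a ha => ?_), ofConv_injective (AlgHom.ext fun a => ?_)⟩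
  · rw [AlgHom.comp_apply, show Ideal.Quotient.mkₐ k Jm a = 0 from Ideal.Quotient.eq_zero_iff_mem.2 ha, map_zero]
  · rw [AlgHom.comp_apply, show Ideal.Quotient.mkₐ k Jp a = 0 from Ideal.Quotient.eq_zero_iff_mem.2 ha, map_zero]
  · rw [conv_apply]
    show _ = f (Algebra.TensorProduct.map _ _ (Coalgebra.comul (R := k) a))
    generalize Coalgebra.comul (R := k) a = z
    induction z using TensorProduct.induction_on with
    | zero => simp
    | add p q hp hq => simp only [map_add, hp, hq]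
    | tmul p q => simp [← map_mul]

/-- The big cell maps injectively on points. -/
theorem bigCell_ext (f f' : (A ⧸ Jm) ⊗[k] (A ⧸ Jp) →ₐ[k] R)
    (h : f.comp ((Algebra.TensorProduct.map (Ideal.Quotient.mkₐ k Jm) (Ideal.Quotient.mkₐ k Jp)).comp
        (Bialgebra.comulAlgHom k A)) =
      f'.comp ((Algebra.TensorProduct.map (Ideal.Quotient.mkₐ k Jm) (Ideal.Quotient.mkₐ k Jp)).comp
        (Bialgebra.comulAlgHom k A))) : f = f' := by
  obtain ⟨h1, h2, h3⟩ := bigCell_split lam hneg hp hm f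
  obtain ⟨h1', h2', h3'⟩ := bigCell_split lam hneg hp hm f'
  rw [h, ← h3'] at h3
  have e := eq_one_of_mem lam hneg _ (Subgroup.mul_mem _ h2 (Subgroup.inv_mem _ h2'))
    (by
      have h5 := Subgroup.mul_mem _ (Subgroup.inv_mem _ h1) h1'
      rw [mul_inv_eq_of_mul_eq_mul h3]
      exact h5)
  rw [mul_inv_eq_one] at e
  rw [e, mul_left_inj] at h3
  refine Algebra.TensorProduct.ext (AlgHom.ext fun x => ?_) (AlgHom.ext fun x => ?_)
  · obtain ⟨a, rfl⟩ := Ideal.Quotient.mkₐ_surjective k Jm x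
    exact AlgHom.congr_fun (congrArg ofConv h3) a
  · obtain ⟨a, rfl⟩ := Ideal.Quotient.mkₐ_surjective k Jp x
    exact AlgHom.congr_fun (congrArg ofConv e) a

omit hneg in
/-- A pair of points gives a map out of the big cell. -/
theorem bigCell_hom {u p : WithConv (A →ₐ[k] R)} (hu : u ∈ limOneSubgroup R lamNeg) (hp0 : p ∈ limSubgroup R lam) :
    ∃ f : (A ⧸ Jm) ⊗[k] (A ⧸ Jp) →ₐ[k] R,
      toConv (f.comp ((Algebra.TensorProduct.map (Ideal.Quotient.mkₐ k Jm) (Ideal.Quotient.mkₐ k Jp)).comp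
        (Bialgebra.comulAlgHom k A))) = u * p := by
  refine ⟨Algebra.TensorProduct.lift
    (Ideal.Quotient.liftₐ Jm u.ofConv ((hm R _).2 ((limIsOne_iff_mem lamNeg _).2 hu)))
    (Ideal.Quotient.liftₐ Jp p.ofConv ((hp R _).2 ((limExists_iff_mem lam _).2 hp0))) fun _ _ => Commute.all _ _,
    ofConv_injective (AlgHom.ext fun a => ?_)⟩
  rw [conv_apply]
  rw [ofConv_toConv, AlgHom.comp_apply, AlgHom.comp_apply, Bialgebra.comulAlgHom_apply]
  generalize Coalgebra.comul (R := k) a = z
  induction z using TensorProduct.induction_on with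
  | zero => simp
  | add x y hx hy => simp only [map_add, hx, hy]
  | tmul x y => simp

omit hp hm in
/-- Decompositions lift along square-zero extensions in a smooth group. -/
theorem exists_lift_decomp [Algebra.FormallySmooth k A] {R' : Type u} [CommRing R'] [Algebra k R'] {φ : R →ₐ[k] R'}
    (hφ : Function.Surjective φ) (hsq : ∀ x y, φ x = 0 → φ y = 0 → x * y = 0) (g : WithConv (A →ₐ[k] R))
    {ub pb : WithConv (A →ₐ[k] R')} (hub : ub ∈ limOneSubgroup R' lamNeg) (hpb : pb ∈ limSubgroup R' lam)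
    (hg : post φ g = ub * pb) :
    ∃ u ∈ limOneSubgroup R lamNeg, ∃ p ∈ limSubgroup R lam, u * p = g ∧ post φ u = ub ∧ post φ p = pb := by
  obtain ⟨u0, hu0, hu0'⟩ := exists_lift_limOneSubgroup lamNeg hφ hsq hub
  obtain ⟨p0, hp0, hp0'⟩ := exists_lift_limSubgroup lam hφ hsq hpb
  obtain ⟨u1, hu1, p1, hp1, h, hu1', hp1'⟩ := exists_decomp lam hneg hsq (E := u0⁻¹ * g * p0⁻¹)
    (by rw [map_mul, map_mul, map_inv, map_inv, hu0', hp0', hg, inv_mul_cancel_left, mul_inv_cancel])
  refine ⟨u0 * u1, Subgroup.mul_mem _ hu0 hu1, p1 * p0, Subgroup.mul_mem _ hp1 hp0, ?_, ?_, ?_⟩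
  · rw [mul_assoc, ← mul_assoc u1, h, inv_mul_cancel_right, mul_inv_cancel_left]
  · rw [map_mul, hu1', hu0', mul_one]
  · rw [map_mul, hp1', hp0', one_mul]

/-- The big cell of a smooth group is open. -/
theorem isOpenImmersion_bigCell [Algebra.Smooth k A] :
    IsOpenImmersion (Spec.map (CommRingCat.ofHom
      ((Algebra.TensorProduct.map (Ideal.Quotient.mkₐ k Jm) (Ideal.Quotient.mkₐ k Jp)).comp
        (Bialgebra.comulAlgHom k A)).toRingHom)) := by
  classical
  have hJp : Jp = posIdeal lam := represents_unique hp (posIdeal_represents lam)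
  have hJm : Jm = oneIdeal lamNeg := represents_unique hm (oneIdeal_represents lamNeg)
  haveI : Algebra.Smooth k (A ⧸ Jp) := hJp ▸ smooth_posIdeal lam
  haveI : Algebra.Smooth k (A ⧸ Jm) := hJm ▸ smooth_oneIdeal lamNeg
  haveI : Algebra.FinitePresentation k ((A ⧸ Jm) ⊗[k] (A ⧸ Jp)) :=
    Algebra.FinitePresentation.trans k (A ⧸ Jm) _
  refine isOpenImmersion_of_lift _ (fun f f' => bigCell_ext lam hneg hp hm f f') fun {B} _ _ I hI g fb hg => ?_
  have hsq : ∀ x y, Ideal.Quotient.mkₐ k I x = 0 → Ideal.Quotient.mkₐ k I y = 0 → x * y = 0 := fun x y hx hy =>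
    Ideal.mem_bot.1 (hI ▸ pow_two I ▸ Ideal.mul_mem_mul
      (Ideal.Quotient.eq_zero_iff_mem.1 hx) (Ideal.Quotient.eq_zero_iff_mem.1 hy))
  haveI := (inferInstance : Algebra.Smooth k A).formallySmooth
  obtain ⟨h1, h2, h3⟩ := bigCell_split lam hneg hp hm fb
  obtain ⟨u, hu, p, hp0, hup, -, -⟩ := exists_lift_decomp lam hneg (φ := Ideal.Quotient.mkₐ k I)
    Ideal.Quotient.mk_surjective hsq (toConv g) h1 h2 ((ofConv_injective hg.symm).trans h3.symm)
  obtain ⟨f, hf⟩ := bigCell_hom lam hp hm hu hp0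
  have hfg : f.comp ((Algebra.TensorProduct.map (Ideal.Quotient.mkₐ k Jm) (Ideal.Quotient.mkₐ k Jp)).comp
      (Bialgebra.comulAlgHom k A)) = g := congrArg ofConv (hf.trans hup)
  refine ⟨f, hfg, bigCell_ext lam hneg hp hm _ _ ?_⟩
  rw [AlgHom.comp_assoc, hfg, hg]

end Opposite

end

end Groth.Agent.H20Dyn
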