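import Groth.Agent.H20Dyn.Basic
import Mathlib

/-!
# The Hopf ideals cutting out the limit subgroups
-/

set_option autoImplicit false
set_option linter.style.haveILetI false

universe u

open LaurentPolynomial TensorProduct WithConv

namespace Groth.Agent.H20Dyn

noncomputable section

variable {k : Type u} [CommRing k] {A : Type u} [CommRing A] [HopfAlgebra k A]

/-- An ideal representing a family of subgroups of points is a Hopf ideal. -/
theorem isHopfIdeal_of_represents (H : ∀ (R : Type u) [CommRing R] [Algebra k R], Subgroup (WithConv (A →ₐ[k] R)))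
    (J : Ideal A)
    (hJ : ∀ (R : Type u) [CommRing R] [Algebra k R] (g : A →ₐ[k] R), (∀ a ∈ J, g a = 0) ↔ toConv g ∈ H R) :
    J.IsHopfIdeal k := by
  let π : A →ₐ[k] A ⧸ J := Ideal.Quotient.mkₐ k J
  have hπ : ∀ a ∈ J, π a = 0 := fun a ha => Ideal.Quotient.eq_zero_iff_mem.2 ha
  have h1 : ∀ a ∈ J, ((1 : WithConv (A →ₐ[k] k))).ofConv a = 0 := (hJ k _).2 (one_mem (H k))
  have h2 : ∀ a ∈ J, (toConv π)⁻¹.ofConv a = 0 :=
    (hJ (A ⧸ J) _).2 (inv_mem ((hJ (A ⧸ J) π).1 hπ))
  let i₁ : A ⧸ J →ₐ[k] (A ⧸ J) ⊗[k] (A ⧸ J) := Algebra.TensorProduct.includeLeft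
  let i₂ : A ⧸ J →ₐ[k] (A ⧸ J) ⊗[k] (A ⧸ J) := Algebra.TensorProduct.includeRight
  have h3 : ∀ a ∈ J, (toConv (i₁.comp π) * toConv (i₂.comp π)).ofConv a = 0 :=
    (hJ _ _).2 (mul_mem ((hJ _ _).1 fun a ha => by rw [AlgHom.comp_apply, hπ a ha, map_zero])
      ((hJ _ _).1 fun a ha => by rw [AlgHom.comp_apply, hπ a ha, map_zero]))
  refine
    { counit_eq_zero := fun a ha => h1 a ha
      map_mkQ_comul_eq_zero := fun a ha => ?_
      antipode_mem := fun a ha => ?_ }
  · have h : ∀ z : A ⊗[k] A, Algebra.TensorProduct.lmul' k (Algebra.TensorProduct.map (i₁.comp π) (i₂.comp π) z) =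
        Algebra.TensorProduct.map π π z := by
      intro z
      induction z using TensorProduct.induction_on with
      | zero => simp
      | tmul p q => simp [i₁, i₂]
      | add p q hp hq => simp only [map_add, hp, hq]
    exact (h _).symm.trans (h3 a ha)
  · exact Ideal.Quotient.eq_zero_iff_mem.1 (h2 a ha)

variable (lam : A →ₐc[k] k[T;T⁻¹])

/-- The ideal of the points with a limit. -/
def posIdeal : Ideal A := Ideal.span {x | ∃ (a : A) (n : ℤ), n < 0 ∧ (theta k A lam a).coeff n = x}

/-- The ideal of the points tending to one. -/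
def oneIdeal : Ideal A :=
  posIdeal lam ⊔ Ideal.span (Set.range fun a : A =>
    (theta k A lam a).coeff 0 - algebraMap k A (Coalgebra.counit (R := k) a))

theorem posIdeal_represents : Dyn.Represents k A (posIdeal lam) (fun R _ _ g => Dyn.LimExists k A lam R g) := by
  intro R _ _ g
  refine Iff.trans ?_ (limExists_iff lam g).symm
  constructor
  · exact fun h a n hn => h _ (Ideal.subset_span ⟨a, n, hn, rfl⟩)
  · intro h a ha
    show a ∈ RingHom.ker g
    refine (Ideal.span_le.2 ?_ : posIdeal lam ≤ RingHom.ker g) ha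
    rintro _ ⟨b, n, hn, rfl⟩
    exact h b n hn

theorem oneIdeal_represents : Dyn.Represents k A (oneIdeal lam) (fun R _ _ g => Dyn.LimIsOne k A lam R g) := by
  intro R _ _ g
  refine Iff.trans ?_ (limIsOne_iff lam g).symm
  have h0 : (∀ a ∈ oneIdeal lam, g a = 0) ↔ oneIdeal lam ≤ RingHom.ker g := Iff.rfl
  rw [h0, oneIdeal, sup_le_iff, Ideal.span_le, Set.range_subset_iff]
  refine and_congr ?_ (forall_congr' fun a => ?_)
  · exact (posIdeal_represents lam R g)
  · rw [SetLike.mem_coe, RingHom.mem_ker, map_sub, AlgHom.commutes, sub_eq_zero]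

instance isHopfIdeal_posIdeal : (posIdeal lam).IsHopfIdeal k :=
  isHopfIdeal_of_represents (fun R => limSubgroup R lam) _ fun R _ _ g =>
    (posIdeal_represents lam R g).trans (limExists_iff_mem lam g)

instance isHopfIdeal_oneIdeal : (oneIdeal lam).IsHopfIdeal k :=
  isHopfIdeal_of_represents (fun R => limOneSubgroup R lam) _ fun R _ _ g =>
    (oneIdeal_represents lam R g).trans (limIsOne_iff_mem lam g)

end

end Groth.Agent.H20Dyn
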