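import Groth.Agent.H20Dyn.Ideals
import Mathlib

/-!
# Smoothness of the limit subgroups, and the big cell in the smooth case
-/

set_option autoImplicit false
set_option linter.style.haveILetI false

universe u

open LaurentPolynomial TensorProduct WithConv

namespace Groth.Agent.H20Dyn

noncomputable section

variable {k : Type u} [CommRing k] {A : Type u} [CommRing A] [HopfAlgebra k A]
variable {R : Type u} [CommRing R] [Algebra k R] {R' : Type u} [CommRing R'] [Algebra k R']

local notation "ε" => Coalgebra.counit (R := k) (A := A)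

theorem one_apply (a : A) : (1 : WithConv (A →ₐ[k] R)).ofConv a = algebraMap k R (ε a) := rfl

theorem conv_apply (p q : WithConv (A →ₐ[k] R)) (a : A) :
    (p * q).ofConv a = Algebra.TensorProduct.lmul' k (Algebra.TensorProduct.map p.ofConv q.ofConv
      (Coalgebra.comul (R := k) a)) := rfl

theorem post_eq_one_iff (φ : R →ₐ[k] R') (p : WithConv (A →ₐ[k] R)) :
    post φ p = 1 ↔ ∀ a, φ (p.ofConv a) = algebraMap k R' (ε a) :=
  ⟨fun h a => AlgHom.congr_fun (congrArg ofConv h) a, fun h => ofConv_injective (AlgHom.ext h)⟩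

theorem sub_mem_ker {φ : R →ₐ[k] R'} {p : WithConv (A →ₐ[k] R)} (hp : post φ p = 1) (a : A) :
    φ (p.ofConv a - algebraMap k R (ε a)) = 0 := by
  rw [map_sub, (post_eq_one_iff φ p).1 hp a, AlgHom.commutes, sub_self]

/-- Points congruent to one modulo a square-zero ideal multiply additively. -/
theorem mul_apply_of_post_eq_one {φ : R →ₐ[k] R'} (hsq : ∀ x y, φ x = 0 → φ y = 0 → x * y = 0)
    {p q : WithConv (A →ₐ[k] R)} (hp : post φ p = 1) (hq : post φ q = 1) (a : A) :
    (p * q).ofConv a = p.ofConv a + q.ofConv a - algebraMap k R (ε a) := by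
  classical
  rw [conv_apply]
  let Rp := Coalgebra.Repr.arbitrary k a
  have el : a = ∑ i ∈ Rp.index, ε (Rp.right i) • Rp.left i := by
    have h := congrArg (TensorProduct.rid k A) (Coalgebra.sum_tmul_counit_eq Rp)
    rw [map_sum] at h
    simp only [TensorProduct.rid_tmul, one_smul] at h
    exact h.symm
  have er : a = ∑ i ∈ Rp.index, ε (Rp.left i) • Rp.right i := (Coalgebra.sum_counit_smul Rp).symm
  have hz : ∀ i, (p.ofConv (Rp.left i) - algebraMap k R (ε (Rp.left i))) *
      (q.ofConv (Rp.right i) - algebraMap k R (ε (Rp.right i))) = 0 := fun i =>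
    hsq _ _ (sub_mem_ker hp _) (sub_mem_ker hq _)
  have e3 : algebraMap k R (ε a) = ∑ i ∈ Rp.index, algebraMap k R (ε (Rp.left i)) * algebraMap k R (ε (Rp.right i)) := by
    conv_lhs => rw [el]
    simp [map_sum, mul_comm]
  conv_lhs => rw [← Rp.eq]
  rw [map_sum, map_sum, e3]
  conv_rhs => arg 1; arg 1; rw [el]
  conv_rhs => arg 1; arg 2; rw [er]
  rw [map_sum, map_sum, ← Finset.sum_add_distrib, ← Finset.sum_sub_distrib]
  refine Finset.sum_congr rfl fun i _ => ?_
  rw [Algebra.TensorProduct.map_tmul, Algebra.TensorProduct.lmul'_apply_tmul, map_smul, map_smul, Algebra.smul_def,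
    Algebra.smul_def]
  linear_combination hz i

variable (lam : A →ₐc[k] k[T;T⁻¹])

theorem mapL_eq_zero_iff (φ : R →ₐ[k] R') (f : R[T;T⁻¹]) : mapL R φ f = 0 ↔ ∀ n, φ (f.coeff n) = 0 := by
  constructor
  · intro h n
    rw [← AddMonoidAlgebra.coeff_mapAlgHom]
    exact (congrArg (fun f => f.coeff n) h).trans rfl
  · intro h
    refine AddMonoidAlgebra.coeff_injective (Finsupp.ext fun n => ?_)
    rw [AddMonoidAlgebra.coeff_mapAlgHom, h n]
    rfl

theorem mapL_sq (φ : R →ₐ[k] R') (hsq : ∀ x y, φ x = 0 → φ y = 0 → x * y = 0) (f g : R[T;T⁻¹])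
    (hf : mapL R φ f = 0) (hg : mapL R φ g = 0) : f * g = 0 := by
  classical
  rw [mapL_eq_zero_iff] at hf hg
  rw [← AddMonoidAlgebra.sum_coeff_single f, ← AddMonoidAlgebra.sum_coeff_single g, Finsupp.sum, Finsupp.sum,
    Finset.sum_mul_sum]
  refine Finset.sum_eq_zero fun i _ => Finset.sum_eq_zero fun j _ => ?_
  rw [AddMonoidAlgebra.single_mul_single, hsq _ _ (hf i) (hg j), AddMonoidAlgebra.single_zero]

theorem counit_theta_coeff (a : A) (n : ℤ) : ε ((theta k A lam a).coeff n) = if n = 0 then ε a else 0 := by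
  classical
  have h : ((conjHom lam (1 : WithConv (A →ₐ[k] k))).ofConv a).coeff n = ε ((theta k A lam a).coeff n) :=
    coeff_conjHom lam (1 : WithConv (A →ₐ[k] k)) a n
  rw [← h, map_one, one_apply,
    show ∀ c : k, algebraMap k k[T;T⁻¹] c = AddMonoidAlgebra.single 0 c from fun _ => rfl,
    AddMonoidAlgebra.coeff_single, Finsupp.single_apply]
  simp [eq_comm]

theorem sum_single_mem_of_coeff (p : Subalgebra k R[T;T⁻¹]) (f : R[T;T⁻¹])
    (h : ∀ n, AddMonoidAlgebra.single n (f.coeff n) ∈ p) : f ∈ p := by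
  rw [← AddMonoidAlgebra.sum_coeff_single f]
  exact sum_mem fun n _ => h n

theorem single_mem_range_toL {n : ℤ} {c : R} (h : n < 0 → c = 0) :
    AddMonoidAlgebra.single n c ∈ (toL k R).range := by
  rcases lt_or_ge n 0 with hn | hn
  · rw [h hn, AddMonoidAlgebra.single_zero]; exact zero_mem _
  · obtain ⟨m, rfl⟩ := Int.eq_ofNat_of_zero_le hn
    exact ⟨Polynomial.monomial m c, toL_monomial m c⟩

theorem mem_range_post_iff {φ : R →ₐ[k] R'} (hφ : Function.Injective φ) (p : WithConv (A →ₐ[k] R')) :
    p ∈ (post φ : WithConv (A →ₐ[k] R) →* _).range ↔ ∀ a, p.ofConv a ∈ φ.range := by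
  constructor
  · rintro ⟨q, rfl⟩ a
    exact ⟨q.ofConv a, rfl⟩
  · intro h
    exact ⟨toConv ((AlgEquiv.ofInjective φ hφ).symm.toAlgHom.comp (p.ofConv.codRestrict _ h)),
      ofConv_injective (AlgHom.ext fun a =>
        congrArg Subtype.val ((AlgEquiv.ofInjective φ hφ).apply_symm_apply ⟨_, h a⟩))⟩

theorem mem_limSubgroup_iff (g : WithConv (A →ₐ[k] R)) :
    g ∈ limSubgroup R lam ↔ ∀ (a : A) (n : ℤ), n < 0 → g.ofConv ((theta k A lam a).coeff n) = 0 :=
  (limExists_iff_mem lam g.ofConv).symm.trans (limExists_iff lam g.ofConv)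

/-- The limit of a point of the subgroup commutes with the one-parameter subgroup. -/
theorem conjHom_ev0 {g : WithConv (A →ₐ[k] R)} {h : WithConv (A →ₐ[k] Polynomial R)}
    (hh : post (toL k R) h = conjHom lam g) :
    conjHom lam (post (ev0 (k := k) R) h) = post (cst k R) (post (ev0 (k := k) R) h) := by
  classical
  have hza : ∀ b, (post (ev0 (k := k) R) h).ofConv b = g.ofConv ((theta k A lam b).coeff 0) := fun b => by
    rw [← coeff_conjHom, ← hh]
    show Polynomial.aeval (0 : R) (h.ofConv b) = (toL k R (h.ofConv b)).coeff ((0 : ℕ) : ℤ)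
    rw [coeff_toL, Polynomial.coe_aeval_eq_eval, Polynomial.coeff_zero_eq_eval_zero]
  refine ofConv_injective (AlgHom.ext fun a => AddMonoidAlgebra.coeff_injective (Finsupp.ext fun n => ?_))
  rw [coeff_conjHom, hza, theta_coeff]
  show _ = (algebraMap R R[T;T⁻¹] ((post (ev0 (k := k) R) h).ofConv a)).coeff n
  rw [hza, show ∀ r : R, algebraMap R R[T;T⁻¹] r = AddMonoidAlgebra.single 0 r from fun _ => rfl]
  by_cases hn : n = 0
  · subst hn; simp [-LaurentPolynomial.single_eq_C_mul_T]
  · simp [-LaurentPolynomial.single_eq_C_mul_T, Finsupp.single_apply, hn, Ne.symm hn]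

variable (k R) in
/-- Constant polynomials. -/
def cpol : R →ₐ[k] Polynomial R := IsScalarTower.toAlgHom k R (Polynomial R)

theorem toL_comp_cpol : (toL k R).comp (cpol k R) = cst k R := AlgHom.ext fun r => Polynomial.toLaurent_C r

theorem ev0_comp_cpol : (ev0 (k := k) R).comp (cpol k R) = AlgHom.id k R := AlgHom.ext fun r => by
  show Polynomial.aeval (0 : R) (Polynomial.C r) = r
  rw [Polynomial.aeval_C]; rfl

/-- Removing the limit gives a point tending to one. -/
theorem inv_ev0_mul_mem {g : WithConv (A →ₐ[k] R)} {h : WithConv (A →ₐ[k] Polynomial R)}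
    (hh : post (toL k R) h = conjHom lam g) : (post (ev0 (k := k) R) h)⁻¹ * g ∈ limOneSubgroup R lam := by
  set z := post (ev0 (k := k) R) h with hz
  refine ⟨(post (cpol k R) z)⁻¹ * h, ?_, ?_⟩
  · show post (ev0 (k := k) R) _ = 1
    rw [map_mul, map_inv, post_post, ev0_comp_cpol]
    exact inv_mul_cancel z
  · rw [map_mul, map_inv, post_post, toL_comp_cpol, hh, map_mul, map_inv, hz, conjHom_ev0 lam hh]

variable (R) in
/-- The sum of the coefficients in negative degrees. -/
def negSum : R[T;T⁻¹] →+ R :=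
  (Finsupp.liftAddHom fun n : ℤ => if n < 0 then AddMonoidHom.id R else 0).comp
    { toFun := fun f => f.coeff, map_zero' := rfl, map_add' := fun f g => AddMonoidAlgebra.coeff_add f g }

theorem negSum_single (n : ℤ) (c : R) : negSum R (AddMonoidAlgebra.single n c) = if n < 0 then c else 0 := by
  show Finsupp.liftAddHom _ (AddMonoidAlgebra.single n c).coeff = _
  rw [AddMonoidAlgebra.coeff_single, Finsupp.liftAddHom_apply_single]
  split_ifs <;> rfl

theorem negSum_eq (f : R[T;T⁻¹]) : negSum R f = ∑ n ∈ f.coeff.support, if n < 0 then f.coeff n else 0 := by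
  conv_lhs => rw [← AddMonoidAlgebra.sum_coeff_single f]
  rw [Finsupp.sum, map_sum]
  simp only [negSum_single]

theorem negSum_smul (c : k) (f : R[T;T⁻¹]) : negSum R (algebraMap k R[T;T⁻¹] c * f) = algebraMap k R c * negSum R f := by
  induction f using AddMonoidAlgebra.induction_linear with
  | zero => simp
  | add p q hp hq => rw [mul_add, map_add, hp, hq, map_add, mul_add]
  | single n r =>
    rw [show algebraMap k R[T;T⁻¹] c = AddMonoidAlgebra.single 0 (algebraMap k R c) from rfl,
      AddMonoidAlgebra.single_mul_single, zero_add, negSum_single, negSum_single]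
    split_ifs <;> simp

theorem mapL_twist (φ : R →ₐ[k] R') (f : R[T;T⁻¹]) :
    mapL R[T;T⁻¹] (mapL R φ) (twist k R f) = twist k R' (mapL R φ f) := by
  induction f using AddMonoidAlgebra.induction_linear with
  | zero => simp
  | add p q hp hq => simp only [map_add, hp, hq]
  | single n c => simp only [twist_single, mapL_single]

theorem coeff_algebraMap_of_ne {n : ℤ} (hn : n ≠ 0) (c : k) : (algebraMap k R[T;T⁻¹] c).coeff n = 0 := by
  rw [show algebraMap k R[T;T⁻¹] c = AddMonoidAlgebra.single (0 : ℤ) (algebraMap k R c) from rfl,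
    AddMonoidAlgebra.coeff_single, Finsupp.single_eq_of_ne hn]

theorem coeff_sub_of_ne (f : R[T;T⁻¹]) {n : ℤ} (hn : n ≠ 0) (c : k) :
    (f - algebraMap k R[T;T⁻¹] c).coeff n = f.coeff n := by
  rw [AddMonoidAlgebra.coeff_sub, Finsupp.sub_apply, coeff_algebraMap_of_ne hn, sub_zero]

theorem toL_map (φ : R →ₐ[k] R') (p : Polynomial R) :
    toL k R' (Polynomial.mapAlgHom φ p) = mapL R φ (toL k R p) := by
  induction p using Polynomial.induction_on' with
  | add p q hp hq => simp only [map_add, hp, hq]
  | monomial n c =>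
    show toL k R' (Polynomial.map (φ : R →+* R') (Polynomial.monomial n c)) = _
    rw [Polynomial.map_monomial, toL_monomial, toL_monomial, mapL_single]
    rfl

variable (k R) in
/-- Laurent polynomials with polynomial coefficients, inside iterated Laurent polynomials. -/
abbrev iota : (Polynomial R)[T;T⁻¹] →ₐ[k] R[T;T⁻¹][T;T⁻¹] := mapL (Polynomial R) (toL k R)

theorem iota_injective : Function.Injective (iota k R) := fun p q h => by
  refine AddMonoidAlgebra.coeff_injective (Finsupp.ext fun m => toL_injective (k := k) ?_)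
  rw [← AddMonoidAlgebra.coeff_mapAlgHom, ← AddMonoidAlgebra.coeff_mapAlgHom]
  exact congrArg (fun f => f.coeff m) h

theorem twist_toL_mem (p : Polynomial R) : twist k R (toL k R p) ∈ (iota k R).range := by
  induction p using Polynomial.induction_on' with
  | add p q hp hq => rw [map_add, map_add]; exact add_mem hp hq
  | monomial n c =>
    rw [toL_monomial, twist_single]
    exact ⟨AddMonoidAlgebra.single (n : ℤ) (Polynomial.monomial n c), by
      rw [← toL_monomial (k := k) n c]; exact mapL_single (toL k R) (n : ℤ) (Polynomial.monomial n c)⟩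

theorem coeff_twist (f : R[T;T⁻¹]) (m n : ℤ) :
    ((twist k R f).coeff m).coeff n = if m = n then f.coeff n else 0 := by
  induction f using AddMonoidAlgebra.induction_linear with
  | zero => simp
  | add p q hp hq =>
    rw [map_add, AddMonoidAlgebra.coeff_add, Finsupp.add_apply, AddMonoidAlgebra.coeff_add, Finsupp.add_apply, hp, hq]
    split_ifs <;> simp [AddMonoidAlgebra.coeff_add]
  | single i c =>
    rw [twist_single, AddMonoidAlgebra.coeff_single, Finsupp.single_apply]
    split_ifs with h1 h2 h3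
    · subst h1; subst h2; simp [-LaurentPolynomial.single_eq_C_mul_T]
    · subst h1; simp [-LaurentPolynomial.single_eq_C_mul_T, Finsupp.single_apply, h2]
    · subst h3; simp [-LaurentPolynomial.single_eq_C_mul_T, Finsupp.single_apply, h1]
    · simp

theorem cocycle_aux {G : Type u} [Group G] {a b c d : G} (h : a * b = c * d) : a = c * (d * b⁻¹) := by
  rw [← mul_assoc, ← h, mul_inv_cancel_right]

variable (k A R) in
/-- Points with polynomial coefficients inside iterated Laurent polynomials. -/
def iotaRange : Subgroup (WithConv (A →ₐ[k] R[T;T⁻¹][T;T⁻¹])) :=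
  @MonoidHom.range (WithConv (A →ₐ[k] (Polynomial R)[T;T⁻¹])) ptGroup (WithConv (A →ₐ[k] R[T;T⁻¹][T;T⁻¹])) ptGroup
    (post (A := A) (mapL (Polynomial R) (toL k R)))

theorem mem_iotaRange_iff (p : WithConv (A →ₐ[k] R[T;T⁻¹][T;T⁻¹])) :
    p ∈ iotaRange k A R ↔ ∀ a, p.ofConv a ∈ (iota k R).range :=
  mem_range_post_iff iota_injective p

theorem conjHom_post_toL_mem (ht : WithConv (A →ₐ[k] Polynomial R)) :
    conjHom lam (post (toL k R) ht) ∈ iotaRange k A R :=
  ⟨conjHom lam ht, post_conjHom lam (toL k R) ht⟩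

theorem post_twist_toL_mem (ht : WithConv (A →ₐ[k] Polynomial R)) :
    post (twist k R) (post (toL k R) ht) ∈ iotaRange k A R :=
  (mem_iotaRange_iff _).2 fun b => twist_toL_mem (ht.ofConv b)

theorem defect_mem (ht : WithConv (A →ₐ[k] Polynomial R)) :
    post (twist k R) (post (toL k R) ht) * (conjHom lam (post (toL k R) ht))⁻¹ ∈ iotaRange k A R :=
  Subgroup.mul_mem _ (post_twist_toL_mem ht) (Subgroup.inv_mem _ (conjHom_post_toL_mem lam ht))

/-- The negative part of the defect is homogeneous. -/
theorem coeff_defect {φ : R →ₐ[k] R'} (hsq : ∀ x y, φ x = 0 → φ y = 0 → x * y = 0)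
    {g0 : WithConv (A →ₐ[k] R)} {ht : WithConv (A →ₐ[k] Polynomial R)} {x : WithConv (A →ₐ[k] R[T;T⁻¹])}
    (hxe : conjHom lam g0 = x * post (toL k R) ht) (hx : post (mapL R φ) x = 1) (a : A) (m : ℤ) {n : ℤ} (hn : n < 0) :
    (x.ofConv ((theta k A lam a).coeff m)).coeff n = if m = n then (x.ofConv a).coeff n else 0 := by
  let y := post (twist k R) (post (toL k R) ht) * (conjHom lam (post (toL k R) ht))⁻¹
  have hcy : conjHom lam x = post (twist k R) x * y := by
    have h1 := conjHom_conjHom lam g0
    rw [hxe, map_mul, map_mul] at h1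
    exact cocycle_aux h1
  have hΨ : post (mapL R[T;T⁻¹] (mapL R φ)) (post (twist k R) x) = 1 := by
    rw [post_post, show (mapL R[T;T⁻¹] (mapL R φ)).comp (twist k R) = (twist k R').comp (mapL R φ) from
      AlgHom.ext (mapL_twist φ), ← post_post, hx, map_one]
  have hy1 : post (mapL R[T;T⁻¹] (mapL R φ)) y = 1 := by
    have h : post (mapL R[T;T⁻¹] (mapL R φ)) (conjHom lam x) = 1 := by rw [post_conjHom, hx, map_one]
    rw [hcy, map_mul, hΨ, one_mul] at h
    exact h
  have hy : y ∈ iotaRange k A R := defect_mem lam ht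
  obtain ⟨y', hy'⟩ := hy
  have hyR : ((y.ofConv a).coeff m).coeff n = 0 := by
    rw [← hy', post_ofConv, AlgHom.comp_apply, AddMonoidAlgebra.coeff_mapAlgHom]
    exact coeff_toL_neg (k := k) _ hn
  have hsqLL := mapL_sq (mapL R φ) (mapL_sq φ hsq)
  have hc : ((algebraMap k R[T;T⁻¹][T;T⁻¹] (Coalgebra.counit (R := k) a)).coeff m).coeff n = 0 := by
    by_cases hm : m = 0
    · subst hm
      show ((AddMonoidAlgebra.single (0 : ℤ) (algebraMap k R[T;T⁻¹] (Coalgebra.counit (R := k) a))).coeff 0).coeff n = 0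
      rw [AddMonoidAlgebra.coeff_single, Finsupp.single_eq_same, coeff_algebraMap_of_ne hn.ne]
    · rw [coeff_algebraMap_of_ne hm]; rfl
  have h := congrArg (fun p => ((p.ofConv a).coeff m).coeff n) hcy
  rw [coeff_conjHom, mul_apply_of_post_eq_one hsqLL hΨ hy1] at h
  refine h.trans ?_
  rw [AddMonoidAlgebra.coeff_sub, Finsupp.sub_apply, AddMonoidAlgebra.coeff_add, Finsupp.add_apply,
    AddMonoidAlgebra.coeff_sub, Finsupp.sub_apply, AddMonoidAlgebra.coeff_add, Finsupp.add_apply, hyR, hc,
    add_zero, sub_zero, post_ofConv, AlgHom.comp_apply, coeff_twist]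

theorem negSum_one : negSum R (1 : R[T;T⁻¹]) = 0 := by
  rw [AddMonoidAlgebra.one_def, negSum_single, if_neg (lt_irrefl _)]

theorem negSum_mem_ker {φ : R →ₐ[k] R'} {f : R[T;T⁻¹]} (h : ∀ n < 0, φ (f.coeff n) = 0) : φ (negSum R f) = 0 := by
  rw [negSum_eq, map_sum]
  refine Finset.sum_eq_zero fun n _ => ?_
  split_ifs with hn
  · exact h n hn
  · exact map_zero φ

/-- The correcting point. -/
theorem exists_correction {φ : R →ₐ[k] R'} (hsq : ∀ x y, φ x = 0 → φ y = 0 → x * y = 0)
    {x : WithConv (A →ₐ[k] R[T;T⁻¹])} (hx : post (mapL R φ) x = 1) :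
    ∃ E : WithConv (A →ₐ[k] R), post φ E = 1 ∧
      ∀ a, E.ofConv a = algebraMap k R (Coalgebra.counit (R := k) a) - negSum R (x.ofConv a) := by
  have hsqL := mapL_sq φ hsq
  have hker : ∀ a, φ (negSum R (x.ofConv a)) = 0 := fun a => negSum_mem_ker fun n hn => by
    have h := (mapL_eq_zero_iff φ _).1 (sub_mem_ker hx a) n
    rwa [coeff_sub_of_ne _ hn.ne] at h
  let E : A →ₗ[k] R :=
    { toFun := fun a => algebraMap k R (Coalgebra.counit (R := k) a) - negSum R (x.ofConv a)
      map_add' := fun a b => by simp only [map_add]; ring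
      map_smul' := fun c a => by
        rw [RingHom.id_apply, map_smul (Coalgebra.counit (R := k) (A := A)), smul_eq_mul, map_mul,
          map_smul x.ofConv, Algebra.smul_def c (x.ofConv a), negSum_smul, Algebra.smul_def, mul_sub] }
  have hmul : ∀ a b, E (a * b) = E a * E b := by
    intro a b
    have h0 := hsqL _ _ (sub_mem_ker hx a) (sub_mem_ker hx b)
    have e : x.ofConv (a * b) = algebraMap k _ (Coalgebra.counit (R := k) a) * x.ofConv b +
        algebraMap k _ (Coalgebra.counit (R := k) b) * x.ofConv a -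
        algebraMap k _ (Coalgebra.counit (R := k) a * Coalgebra.counit (R := k) b) * 1 := by
      rw [map_mul, map_mul (algebraMap k R[T;T⁻¹]), mul_one]
      linear_combination h0
    show algebraMap k R _ - negSum R _ = (algebraMap k R _ - negSum R _) * (algebraMap k R _ - negSum R _)
    rw [e, map_sub, map_add, negSum_smul, negSum_smul, negSum_smul, negSum_one, Bialgebra.counit_mul, map_mul]
    linear_combination -(hsq _ _ (hker a) (hker b))
  have hone : E 1 = 1 := by
    show algebraMap k R _ - negSum R _ = 1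
    rw [Bialgebra.counit_one, map_one, map_one, negSum_one, sub_zero]
  refine ⟨toConv (AlgHom.ofLinearMap E hone hmul), (post_eq_one_iff φ _).2 fun a => ?_, fun a => rfl⟩
  show φ (algebraMap k R _ - negSum R (x.ofConv a)) = _
  rw [map_sub, AlgHom.commutes, hker a, sub_zero]

/-- Points of the limit subgroup lift along square-zero extensions. -/
theorem exists_lift_limSubgroup [Algebra.FormallySmooth k A] {φ : R →ₐ[k] R'} (hφ : Function.Surjective φ)
    (hsq : ∀ x y, φ x = 0 → φ y = 0 → x * y = 0) {gb : WithConv (A →ₐ[k] R')} (hgb : gb ∈ limSubgroup R' lam) :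
    ∃ g ∈ limSubgroup R lam, post φ g = gb := by
  classical
  obtain ⟨hb, hhb⟩ := hgb
  have hsqL := mapL_sq φ hsq
  have hnil : IsNilpotent (RingHom.ker (φ : R →+* R')) :=
    ⟨2, le_bot_iff.1 (by
      rw [pow_two, Ideal.mul_le]
      exact fun x hx y hy => (Ideal.mem_bot).2 (hsq x y hx hy))⟩
  let φX : Polynomial R →ₐ[k] Polynomial R' := Polynomial.mapAlgHom φ
  have hφX : Function.Surjective φX := Polynomial.map_surjective _ hφ
  have hnilX : IsNilpotent (RingHom.ker (φX : Polynomial R →+* Polynomial R')) :=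
    ⟨2, le_bot_iff.1 (by
      rw [pow_two, Ideal.mul_le]
      intro p hp q hq
      refine (Ideal.mem_bot).2 (toL_injective (k := k) ?_)
      rw [map_mul, map_zero]
      refine hsqL _ _ ?_ ?_
      · rw [← toL_map, show Polynomial.mapAlgHom φ p = 0 from hp, map_zero]
      · rw [← toL_map, show Polynomial.mapAlgHom φ q = 0 from hq, map_zero])⟩
  let g0 : WithConv (A →ₐ[k] R) := toConv (Algebra.FormallySmooth.liftOfSurjective gb.ofConv φ hφ hnil)
  have hg0 : post φ g0 = gb :=
    ofConv_injective (Algebra.FormallySmooth.comp_liftOfSurjective gb.ofConv φ hφ hnil)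
  let ht : WithConv (A →ₐ[k] Polynomial R) := toConv (Algebra.FormallySmooth.liftOfSurjective hb.ofConv φX hφX hnilX)
  have hht : post φX ht = hb :=
    ofConv_injective (Algebra.FormallySmooth.comp_liftOfSurjective hb.ofConv φX hφX hnilX)
  let x := conjHom lam g0 * (post (toL k R) ht)⁻¹
  have hxe : conjHom lam g0 = x * post (toL k R) ht := (inv_mul_cancel_right _ _).symm
  have hx : post (mapL R φ) x = 1 := by
    rw [map_mul, map_inv, post_conjHom, hg0, post_post,
      show (mapL R φ).comp (toL k R) = (toL k R').comp φX from AlgHom.ext fun p => (toL_map φ p).symm,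
      ← post_post, hht, hhb, mul_inv_cancel]
  obtain ⟨E, hE1, hE⟩ := exists_correction hsq hx
  refine ⟨E * g0, ?_, by rw [map_mul, hE1, hg0, one_mul]⟩
  show conjHom lam (E * g0) ∈ (post (toL k R)).range
  rw [map_mul, hxe, ← mul_assoc]
  refine mul_mem ((mem_range_post_iff toL_injective _).2 fun a => sum_single_mem_of_coeff _ _ fun m => ?_) ⟨ht, rfl⟩
  refine single_mem_range_toL fun hm => ?_
  have hE' : post (mapL R φ) (conjHom lam E) = 1 := by rw [post_conjHom, hE1, map_one]
  rw [mul_apply_of_post_eq_one hsqL hE' hx, coeff_sub_of_ne _ hm.ne, AddMonoidAlgebra.coeff_add,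
    Finsupp.add_apply, coeff_conjHom, hE, counit_theta_coeff, if_neg hm.ne, map_zero, zero_sub, negSum_eq,
    Finset.sum_eq_single m]
  · rw [if_pos hm, coeff_defect lam hsq hxe hx a m hm, if_pos rfl, neg_add_cancel]
  · intro n _ hne
    split_ifs with hn
    · rw [coeff_defect lam hsq hxe hx a m hn, if_neg hne.symm]
    · rfl
  · intro h
    rw [Finsupp.notMem_support_iff.1 h, ite_self]

/-- Points tending to one lift along square-zero extensions. -/
theorem exists_lift_limOneSubgroup [Algebra.FormallySmooth k A] {φ : R →ₐ[k] R'} (hφ : Function.Surjective φ)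
    (hsq : ∀ x y, φ x = 0 → φ y = 0 → x * y = 0) {gb : WithConv (A →ₐ[k] R')} (hgb : gb ∈ limOneSubgroup R' lam) :
    ∃ g ∈ limOneSubgroup R lam, post φ g = gb := by
  obtain ⟨hb, hb0, hhb⟩ := hgb
  obtain ⟨g, ⟨h, hh⟩, hg⟩ := exists_lift_limSubgroup lam hφ hsq (gb := gb) ⟨hb, hhb⟩
  refine ⟨_, inv_ev0_mul_mem lam hh, ?_⟩
  have h1 : post (Polynomial.mapAlgHom φ) h = hb := by
    refine post_injective (toL_injective (k := k) (R := R')) ?_
    rw [post_post, hhb, ← hg, ← post_conjHom, ← hh, post_post]
    congr 2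
    refine AlgHom.ext fun p => ?_
    induction p using Polynomial.induction_on' with
    | add p q hp hq => rw [map_add, map_add, hp, hq]
    | monomial n c =>
      show toL k R' (Polynomial.map (φ : R →+* R') (Polynomial.monomial n c)) = mapL R φ (toL k R (Polynomial.monomial n c))
      rw [Polynomial.map_monomial, toL_monomial, toL_monomial, mapL_single]
      rfl
  have h2 : post φ (post (ev0 (k := k) R) h) = 1 := by
    have : φ.comp (ev0 (k := k) R) = (ev0 (k := k) R').comp (Polynomial.mapAlgHom φ) := AlgHom.ext fun p => by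
      show φ (Polynomial.aeval (0 : R) p) = Polynomial.aeval (0 : R') (Polynomial.map (φ : R →+* R') p)
      simp [← Polynomial.coeff_zero_eq_eval_zero, Polynomial.coe_aeval_eq_eval]
    rw [post_post, this, ← post_post, h1]
    exact hb0
  rw [map_mul, map_inv, h2, inv_one, one_mul, hg]

end

end Groth.Agent.H20Dyn
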